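import Groth.Agent.Lib.ToposFin.Present
import Groth.Prelude.Def_ToposFin2
import Mathlib.CategoryTheory.Sites.Pullback

/-!
# Algebraic topoi, coherent morphisms of topoi
-/

set_option autoImplicit false

universe u w w'

open CategoryTheory CategoryTheory.Limits Opposite ToposFin

namespace Groth.Agent.Topos

variable {C D : Type u} [SmallCategory C] [SmallCategory D] {J : GrothendieckTopology C}
  {K : GrothendieckTopology D}

theorem jepi_of_generating {S : Set (Sh J)} (hgen : IsGenerating S) (X : Sh J) :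
    ∃ (ι : Type u) (F : ι → Sh J) (π : ∀ i, F i ⟶ X), (∀ i, F i ∈ S) ∧ Epi (Sigma.desc π) := by
  obtain ⟨ι, F, π, hF, hπ⟩ := hgen X
  exact ⟨ι, F, π, hF, jepi_of_cancel π hπ⟩

theorem hasQCGenerators_of_generating {S : Set (Sh J)} (hqc : ∀ X ∈ S, IsQC X)
    (hgen : IsGenerating S) : HasQCGenerators J := fun X => by
  obtain ⟨ι, F, π, hF, hπ⟩ := jepi_of_generating hgen X
  exact ⟨ι, F, π, fun i => hqc _ (hF i), hπ⟩

theorem coherent_of_mem {S : Set (Sh J)} (hqc : ∀ X ∈ S, IsQC X) (hgen : IsGenerating S)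
    (hpb : ClosedUnderPullbacks S) {X : Sh J} (hX : X ∈ S) : IsCoherent X := by
  refine ⟨hqc _ hX, fun Y Z a b hY hZ => isQS_iff.1 (isQS_iff.2 fun Y' a' hY' => ?_) Y a hY Z b hZ⟩
  obtain ⟨ι, F, π, hF, hπ⟩ := jepi_of_generating hgen Y'
  obtain ⟨s, hs⟩ := hY' ι F π hπ
  refine qcHom_of_finite_source a' (fun i : s => π i.1) hs fun i => ?_
  refine qcHom_of_generators _ (fun L => L ∈ S) (jepi_of_generating hgen) fun L t hL => ?_
  obtain ⟨P, p, q, hP, sq⟩ := hpb (π i.1 ≫ a') t (hF _) hL hX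
  exact qc_iso sq.isoPullback (hqc _ hP)

theorem qs_pullback_of_algebraic {S : Set (Sh J)} (hqc : ∀ X ∈ S, IsQC X) (hgen : IsGenerating S)
    (hpb : ClosedUnderPullbacks S) (heq : ClosedUnderEqualizers S) {A B Y : Sh J} (a : A ⟶ Y)
    (b : B ⟶ Y) (hA : A ∈ S) (hB : B ∈ S) : IsQS (pullback a b) := by
  let m : pullback a b ⟶ A ⨯ B := prod.lift (pullback.fst a b) (pullback.snd a b)
  haveI : Mono m := ⟨fun u v h => Limits.pullback.hom_ext
    (by
      have := congr_arg (fun z => z ≫ prod.fst) h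
      simp only [m, Category.assoc] at this
      erw [Limits.prod.lift_fst] at this
      exact this)
    (by
      have := congr_arg (fun z => z ≫ prod.snd) h
      simp only [m, Category.assoc] at this
      erw [Limits.prod.lift_snd] at this
      exact this)⟩
  refine qs_of_mono m (isQS_iff.2 fun Y' a' hY' => ?_)
  obtain ⟨ι, F, π, hF, hπ⟩ := jepi_of_generating hgen Y'
  obtain ⟨s, hs⟩ := hY' ι F π hπ
  refine qcHom_of_finite_source a' (fun i : s => π i.1) hs fun i => ?_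
  refine qcHom_of_generators _ (fun L => L ∈ S) (jepi_of_generating hgen) fun L t hL => ?_
  obtain ⟨Q, p, q, hQ, sq⟩ := hpb ((π i.1 ≫ a') ≫ prod.fst) (t ≫ prod.fst) (hF _) hL hA
  obtain ⟨P, e, w, hP, ⟨hlim⟩⟩ := heq (p ≫ (π i.1 ≫ a') ≫ prod.snd) (q ≫ t ≫ prod.snd) hQ hB
  refine qc_iso (IsPullback.isoPullback (fst := e ≫ p) (snd := e ≫ q) ?_) (hqc _ hP)
  have w0 : (e ≫ p) ≫ π i.1 ≫ a' = (e ≫ q) ≫ t := by
    refine Limits.prod.hom_ext ?_ ?_
    · simpa only [Category.assoc] using congr_arg (e ≫ ·) sq.w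
    · simpa only [Category.assoc] using w
  refine IsPullback.of_isLimit' ⟨w0⟩ (PullbackCone.IsLimit.mk _ (fun c => Fork.IsLimit.lift hlim
    (sq.lift c.fst c.snd (by
      simpa only [Category.assoc] using congr_arg (fun z => z ≫ prod.fst) c.condition)) ?_) ?_ ?_ ?_)
  · simp only [← Category.assoc]
    rw [sq.lift_fst, sq.lift_snd]
    simpa only [Category.assoc] using congr_arg (fun z => z ≫ prod.snd) c.condition
  · intro c
    erw [← Category.assoc, Fork.IsLimit.lift_ι hlim, sq.lift_fst]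
  · intro c
    erw [← Category.assoc, Fork.IsLimit.lift_ι hlim, sq.lift_snd]
  · intro c m h1 h2
    refine Fork.IsLimit.hom_ext hlim ?_
    erw [Fork.IsLimit.lift_ι hlim]
    exact sq.hom_ext ((Category.assoc _ _ _).trans (h1.trans (sq.lift_fst _ _ _).symm))
      ((Category.assoc _ _ _).trans (h2.trans (sq.lift_snd _ _ _).symm))

theorem qsHom_of_algebraic (hE : IsAlgebraic J) {X Y : Sh J} (f : X ⟶ Y) (hX : IsQS X) :
    IsQSHom f := by
  obtain ⟨S, hqc, hgen, hpb, heq⟩ := hE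
  obtain ⟨ι, F, π, hF, hπ⟩ := jepi_of_generating hgen X
  exact qsHom_of_cover_qs_products (hasQCGenerators_of_generating hqc hgen) f π hπ
    (fun i => hqc _ (hF i)) (fun i j => qs_pullback_of_algebraic hqc hgen hpb heq _ _ (hF i) (hF j)) hX

theorem hasQCGenerators_of_algebraic (hE : IsAlgebraic J) : HasQCGenerators J := by
  obtain ⟨S, hqc, hgen, -, -⟩ := hE
  exact hasQCGenerators_of_generating hqc hgen

theorem qcHom_of_qc_qs {X Y : Sh J} (f : X ⟶ Y) (hX : IsQC X) (hY : IsQS Y) : IsQCHom f :=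
  isQS_iff.1 hY X f hX

theorem qc_of_qcHom {X Y : Sh J} (f : X ⟶ Y) (hf : IsQCHom f) (hY : IsQC Y) : IsQC X :=
  IsQCHom.qc hf (IsPullback.of_horiz_isIso ⟨by simp⟩ : IsPullback (𝟙 X) f f (𝟙 Y)) hY

theorem qsHom_iff_of_locallyCoherent {S : Set (Sh J)} (hqc : ∀ X ∈ S, IsQC X) (hgen : IsGenerating S)
    (hpb : ClosedUnderPullbacks S) {X Y : Sh J} (f : X ⟶ Y) :
    IsQSHom f ↔ ∀ (Y' : Sh J) (g : Y' ⟶ Y), IsQS Y' → IsQS (pullback f g) := by
  refine ⟨fun h Y' g hY' => qs_of_qsHom _ (qsHom_isPullback (IsPullback.of_hasPullback f g) h) hY',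
    fun h => ?_⟩
  obtain ⟨ι, F, π, hF, hπ⟩ := jepi_of_generating hgen Y
  refine qsHom_of_target_cover (hasQCGenerators_of_generating hqc hgen) f F π hπ fun i => ?_
  obtain ⟨κ, G, ρ, hG, hρ⟩ := jepi_of_generating hgen (pullback f (π i))
  refine qsHom_of_cover_qs_products (hasQCGenerators_of_generating hqc hgen) _ ρ hρ
    (fun k => hqc _ (hG k)) (fun j k => ?_) (h _ (π i) (coherent_of_mem hqc hgen hpb (hF i)).2)
  obtain ⟨P, p, q, hP, sq⟩ := hpb (ρ j ≫ pullback.snd f (π i)) (ρ k ≫ pullback.snd f (π i))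
    (hG j) (hG k) (hF i)
  exact qs_of_mono sq.isoPullback.inv (coherent_of_mem hqc hgen hpb hP).2

theorem mem_sigma {S : Set (Sh J)} (hiso : ∀ ⦃K L : Sh J⦄, K ∈ S → Nonempty (K ≅ L) → L ∈ S)
    (hcolim : ∀ (K : Type) [SmallCategory K] [FinCategory K] (D : K ⥤ Sh J),
      (∀ k, D.obj k ∈ S) → colimit D ∈ S) {A : Type u} [Finite A] (F : A → Sh J) (h : ∀ x, F x ∈ S) :
    ∐ F ∈ S := by
  obtain ⟨n, ⟨e⟩⟩ := Finite.exists_equiv_fin A
  exact hiso (hcolim (Discrete (Fin n)) (Discrete.functor fun k => F (e.symm k)) fun k => h _)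
    ⟨Sigma.whiskerEquiv e.symm fun _ => Iso.refl _⟩

theorem mem_of_coherent {S : Set (Sh J)} (hqc : ∀ K ∈ S, IsQC K)
    (hiso : ∀ ⦃K L : Sh J⦄, K ∈ S → Nonempty (K ≅ L) → L ∈ S)
    (hgen : IsGenerating S)
    (hcolim : ∀ (K : Type) [SmallCategory K] [FinCategory K] (D : K ⥤ Sh J),
      (∀ k, D.obj k ∈ S) → colimit D ∈ S) {X : Sh J} (hX : IsCoherent X) : X ∈ S := by
  obtain ⟨ι, F, π, hF, hπ⟩ := jepi_of_generating hgen X
  obtain ⟨s, hs⟩ := hX.1 ι F π hπ
  let K₀ := ∐ fun i : s => F i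
  have hK : K₀ ∈ S := mem_sigma hiso hcolim _ fun i => hF _
  let q : K₀ ⟶ X := Sigma.desc fun i : s => π i
  haveI : Epi q := hs
  obtain ⟨κ, G, ρ, hG, hρ⟩ := jepi_of_generating hgen (pullback q q)
  obtain ⟨t, ht⟩ := hX.2 K₀ K₀ q q (hqc _ hK) (hqc _ hK) κ G ρ hρ
  let r : (∐ fun k : t => G k) ⟶ pullback q q := Sigma.desc fun k : t => ρ k
  haveI : Epi r := ht
  have hR : (∐ fun k : t => G k) ∈ S := mem_sigma hiso hcolim _ fun k => hG _
  have hcq : coequalizer (r ≫ pullback.fst q q) (r ≫ pullback.snd q q) ∈ S :=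
    hcolim WalkingParallelPair (parallelPair _ _) (by rintro (_ | _) <;> assumption)
  obtain ⟨a, ha⟩ := desc_of_epi q (coequalizer.π (r ≫ pullback.fst q q) (r ≫ pullback.snd q q))
    ((cancel_epi r).1 (by simpa using coequalizer.condition (r ≫ pullback.fst q q) (r ≫ pullback.snd q q)))
  refine hiso hcq ⟨⟨coequalizer.desc q (by rw [Category.assoc, pullback.condition, ← Category.assoc]), a,
    coequalizer.hom_ext (by simp [ha]), ?_⟩⟩
  rw [← cancel_epi q, reassoc_of% ha]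
  simp

theorem coherent_of_isFP {S : Set (Sh J)} (hqc : ∀ K ∈ S, IsQC K)
    (hiso : ∀ ⦃K L : Sh J⦄, K ∈ S → Nonempty (K ≅ L) → L ∈ S)
    (hgen : IsGenerating S) (hpb : ClosedUnderPullbacks S)
    (hcolim : ∀ (K : Type) [SmallCategory K] [FinCategory K] (D : K ⥤ Sh J),
      (∀ k, D.obj k ∈ S) → colimit D ∈ S) {X : Sh J} (hX : IsFP X) : IsCoherent X := by
  obtain ⟨A, B, _, _, F, G, a, b, i, p, hF, hG, h⟩ :=
    retract_of_isFP (fun L => L ∈ S) (jepi_of_generating hgen) hX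
  refine coherent_of_retract i p h (coherent_of_mem hqc hgen hpb ?_)
  refine hcolim WalkingParallelPair (parallelPair a b) ?_
  rintro (_ | _)
  · exact mem_sigma hiso hcolim G hG
  · exact mem_sigma hiso hcolim F hF

/-! ### morphisms of topoi -/

variable (F : Sh K ⥤ Sh J) {R : Sh J ⥤ Sh K} (adj : F ⊣ R)

include adj in
theorem jepi_map {ι : Type u} {G : ι → Sh K} {X : Sh K} (π : ∀ i, G i ⟶ X) (h : Epi (Sigma.desc π)) :
    Epi (Sigma.desc fun i => F.map (π i)) :=
  jepi_of_cancel _ fun Z a b hab => (adj.homEquiv _ _).injective (jepi_cancel h _ _ fun i => by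
    rw [← Adjunction.homEquiv_naturality_left, hab, Adjunction.homEquiv_naturality_left])

include adj in
theorem map_qc {S : Set (Sh K)} (hgen : IsGenerating S) (h : ∀ X ∈ S, IsQC (F.obj X)) {X : Sh K}
    (hX : IsQC X) : IsQC (F.obj X) := by
  obtain ⟨ι, G, π, hG, hπ⟩ := jepi_of_generating hgen X
  obtain ⟨s, hs⟩ := hX ι G π hπ
  exact qc_of_finite_family _ (jepi_map F adj (fun i : s => π i.1) hs) fun i => h _ (hG i)

variable [PreservesFiniteLimits F]

include adj in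
theorem map_qs (hE : HasQCGenerators J) {S : Set (Sh K)} (hS : ∀ X ∈ S, IsCoherent X)
    (hgen : IsGenerating S) (h : ∀ X ∈ S, IsCoherent (F.obj X)) {X : Sh K} (hX : IsQS X) :
    IsQS (F.obj X) := by
  obtain ⟨ι, G, π, hG, hπ⟩ := jepi_of_generating hgen X
  have hπ' := jepi_map F adj π hπ
  refine qs_of_cover (fun i => F.map (π i)) hπ' (fun i => (h _ (hG i)).2) fun i => ?_
  refine qcHom_of_target_cover hE (F.map (π i)) _ _ hπ' _ _
    (fun j => (IsPullback.of_hasPullback (π i) (π j)).map F) fun j => ?_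
  exact qcHom_of_qc_qs _ (map_qc F adj hgen (fun Z hZ => (h Z hZ).1)
    (hX _ _ (π i) (π j) (hS _ (hG i)).1 (hS _ (hG j)).1)) (h _ (hG j)).2

include adj in
theorem map_qcHom (hE : HasQCGenerators J) {S : Set (Sh K)} (hqc : ∀ X ∈ S, IsQC X)
    (hgen : IsGenerating S) (hpb : ClosedUnderPullbacks S)
    (hFqc : ∀ X : Sh K, IsQC X → IsQC (F.obj X)) (hFqs : ∀ X : Sh K, IsQS X → IsQS (F.obj X))
    {X Y : Sh K} (v : X ⟶ Y) (hv : IsQCHom v) : IsQCHom (F.map v) := by
  obtain ⟨ι, G, π, hG, hπ⟩ := jepi_of_generating hgen Y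
  refine qcHom_of_target_cover hE (F.map v) _ _ (jepi_map F adj π hπ) _ _
    (fun j => (IsPullback.of_hasPullback v (π j)).map F) fun j => ?_
  exact qcHom_of_qc_qs _ (hFqc _ (hv _ (π j) (hqc _ (hG j))))
    (hFqs _ (coherent_of_mem hqc hgen hpb (hG j)).2)

section Sites

variable (J) (K) (G : C ⥤ D) [Functor.IsContinuous G J K]

theorem nonempty_sheafPullback_eps (X : C) :
    Nonempty ((G.sheafPullback (Type u) J K).obj (eps J X) ≅ eps K (G.obj X)) := by
  let adj := G.sheafAdjunctionContinuous (Type u) J K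
  let a : eps K (G.obj X) ⟶ (G.sheafPullback (Type u) J K).obj (eps J X) :=
    epsDesc K ((adj.unit.app (eps J X)).hom.app (op X) (epsSec J (𝟙 X)))
  let b₀ : eps J X ⟶ (G.sheafPushforwardContinuous (Type u) J K).obj (eps K (G.obj X)) :=
    epsDesc J (X := (G.sheafPushforwardContinuous (Type u) J K).obj (eps K (G.obj X)))
      (epsSec K (𝟙 (G.obj X)))
  let b := (adj.homEquiv _ _).symm b₀
  have hb : adj.unit.app (eps J X) ≫ (G.sheafPushforwardContinuous (Type u) J K).map b = b₀ :=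
    (adj.homEquiv_unit _ _ _).symm.trans (Equiv.apply_symm_apply _ _)
  refine ⟨b, a, (adj.homEquiv _ _).injective ?_, eps_hom_ext K _ _ ?_⟩
  · rw [Adjunction.homEquiv_unit, Adjunction.homEquiv_unit, Functor.map_comp, reassoc_of% hb,
      CategoryTheory.Functor.map_id]
    refine Eq.trans ?_ (Category.comp_id _).symm
    refine eps_hom_ext J _ _ ?_
    rw [comp_app_apply, epsDesc_epsSec]
    exact epsDesc_epsSec K _
  · rw [comp_app_apply]
    refine (congrArg (b.hom.app (op (G.obj X))) (epsDesc_epsSec K _)).trans ?_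
    refine (congr_arg (fun m : eps J X ⟶ _ => m.hom.app (op X) (epsSec J (𝟙 X))) hb).trans ?_
    exact epsDesc_epsSec J _

end Sites

end Groth.Agent.Topos
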