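import Groth.Agent.Lib.ToposFin.Colim

/-!
# Finitely presented objects of a sheaf topos
-/

set_option autoImplicit false

universe u w w'

open CategoryTheory CategoryTheory.Limits Opposite ToposFin

namespace Groth.Agent.Topos

variable {C : Type u} [SmallCategory C] {J : GrothendieckTopology C}

section Post

variable {I : Type u} [SmallCategory I] (D : I ⥤ Sh J) (X : Sh J)

theorem post_ι (i : I) (a : X ⟶ D.obj i) :
    colimit.post D (coyoneda.obj (op X)) (colimit.ι (D ⋙ coyoneda.obj (op X)) i a) =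
      a ≫ colimit.ι D i :=
  ConcreteCategory.congr_hom (colimit.ι_post D (coyoneda.obj (op X)) i) a

theorem post_surjective_iff :
    Function.Surjective (colimit.post D (coyoneda.obj (op X))) ↔
      ∀ c : X ⟶ colimit D, ∃ (i : I) (a : X ⟶ D.obj i), a ≫ colimit.ι D i = c := by
  constructor
  · intro h c
    obtain ⟨z, hz⟩ := h c
    obtain ⟨i, a, rfl⟩ := Types.jointly_surjective' z
    exact ⟨i, a, (post_ι D X i a).symm.trans hz⟩
  · intro h c
    obtain ⟨i, a, rfl⟩ := h c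
    exact ⟨_, post_ι D X i a⟩

theorem post_injective_iff [IsFiltered I] :
    Function.Injective (colimit.post D (coyoneda.obj (op X))) ↔
      ∀ (i : I) (a b : X ⟶ D.obj i), a ≫ colimit.ι D i = b ≫ colimit.ι D i →
        ∃ (j : I) (f : i ⟶ j), a ≫ D.map f = b ≫ D.map f := by
  constructor
  · intro h i a b e
    have := h ((post_ι D X i a).trans (e.trans (post_ι D X i b).symm))
    exact (Types.FilteredColimit.isColimit_eq_iff'
      (colimit.isColimit (D ⋙ coyoneda.obj (op X))) a b).1 this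
  · intro h z₁ z₂ e
    obtain ⟨i, a, b, rfl, rfl⟩ := Types.FilteredColimit.jointly_surjective_of_isColimit₂
      (colimit.isColimit (D ⋙ coyoneda.obj (op X))) z₁ z₂
    simp only [colimit.cocone_ι] at e ⊢
    rw [post_ι, post_ι] at e
    exact (Types.FilteredColimit.isColimit_eq_iff'
      (colimit.isColimit (D ⋙ coyoneda.obj (op X))) a b).2 (h i a b e)

end Post

theorem exists_stage_eq {I : Type u} [SmallCategory I] [IsFiltered I] (D : I ⥤ Sh J) {Y : Sh J}
    (hY : IsQC Y) {i : I} (a b : Y ⟶ D.obj i) (h : a ≫ colimit.ι D i = b ≫ colimit.ι D i) :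
    ∃ (j : I) (f : i ⟶ j), a ≫ D.map f = b ≫ D.map f := by
  classical
  obtain ⟨s, hs⟩ := hY _ _ _ (jepi_equalizer_stage D a b h)
  suffices key : ∀ t : Finset (Σ j, i ⟶ j), ∃ (k : I) (f : i ⟶ k), ∀ p ∈ t,
      equalizer.ι (a ≫ D.map p.2) (b ≫ D.map p.2) ≫ a ≫ D.map f =
        equalizer.ι (a ≫ D.map p.2) (b ≫ D.map p.2) ≫ b ≫ D.map f by
    obtain ⟨k, f, hk⟩ := key s
    exact ⟨k, f, jepi_cancel hs _ _ fun p => hk p.1 p.2⟩
  intro t
  induction t using Finset.induction with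
  | empty => exact ⟨i, 𝟙 i, by simp⟩
  | insert p t _ ih =>
    obtain ⟨k, f, hk⟩ := ih
    let l := IsFiltered.max k p.1
    let n := IsFiltered.coeqHom (f ≫ IsFiltered.leftToMax k p.1) (p.2 ≫ IsFiltered.rightToMax k p.1)
    refine ⟨_, f ≫ IsFiltered.leftToMax k p.1 ≫ n, fun q hq => ?_⟩
    rcases Finset.mem_insert.1 hq with rfl | hq
    · have e : f ≫ IsFiltered.leftToMax k q.1 ≫ n = q.2 ≫ IsFiltered.rightToMax k q.1 ≫ n := by
        simpa using IsFiltered.coeq_condition (f ≫ IsFiltered.leftToMax k q.1) (q.2 ≫ IsFiltered.rightToMax k q.1)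
      rw [e]
      simp only [D.map_comp, ← Category.assoc]
      congr 2
      simpa using equalizer.condition (a ≫ D.map q.2) (b ≫ D.map q.2)
    · have := hk q hq
      simp only [D.map_comp, ← Category.assoc] at this ⊢
      rw [this]

theorem hom_colimit_injective {X : Sh J} (hX : IsQC X) {I : Type u} [SmallCategory I] [IsFiltered I]
    (D : I ⥤ Sh J) : Function.Injective (colimit.post D (coyoneda.obj (op X))) :=
  (post_injective_iff D X).2 fun _ a b h => exists_stage_eq D hX a b h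

theorem qc_of_hom_colimit_injective {X : Sh J}
    (h : ∀ (I : Type u) [SmallCategory I] [IsFiltered I] (D : I ⥤ Sh J),
      Function.Injective (colimit.post D (coyoneda.obj (op X)))) : IsQC X := by
  classical
  intro ι F π hπ
  let u' : ∀ s : Finset ι, (∐ fun i : s => F i) ⟶ X := fun s => Sigma.desc fun i : s => π i
  have hle : ∀ {s t : Finset ι} (hst : s ⊆ t) (i : ι) (hi : i ∈ s),
      π i ≫ pushout.inl (u' t) (u' t) = π i ≫ pushout.inr (u' t) (u' t) := by
    intro s t hst i hi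
    simpa [u'] using congr_arg (fun m => Sigma.ι (fun i : t => F i) ⟨i, hst hi⟩ ≫ m)
      (pushout.condition (f := u' t) (g := u' t))
  let D : Finset ι ⥤ Sh J :=
    { obj := fun s => pushout (u' s) (u' s)
      map := fun {s t} f => pushout.desc (pushout.inl _ _) (pushout.inr _ _)
        (Limits.Sigma.hom_ext _ _ fun i => by simpa [u'] using hle (leOfHom f) i.1 i.2)
      map_id := fun s => pushout.hom_ext (by simp) (by simp)
      map_comp := fun f g => pushout.hom_ext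
        ((pushout.inl_desc _ _ _).trans ((pushout.inl_desc_assoc _ _ _ _).trans (pushout.inl_desc _ _ _)).symm)
        ((pushout.inr_desc _ _ _).trans ((pushout.inr_desc_assoc _ _ _ _).trans (pushout.inr_desc _ _ _)).symm) }
  have hw : ∀ (s : Finset ι) (i : ι),
      π i ≫ pushout.inl (u' s) (u' s) ≫ colimit.ι D s = π i ≫ pushout.inr (u' s) (u' s) ≫ colimit.ι D s := by
    intro s i
    have hs : s ⊆ insert i s := Finset.subset_insert i s
    rw [← colimit.w D (homOfLE hs)]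
    simp only [D, pushout.inl_desc_assoc, pushout.inr_desc_assoc]
    rw [reassoc_of% hle (le_refl (insert i s)) i (Finset.mem_insert_self i s)]
  have he : pushout.inl (u' ∅) (u' ∅) ≫ colimit.ι D ∅ = pushout.inr (u' ∅) (u' ∅) ≫ colimit.ι D ∅ :=
    jepi_cancel hπ _ _ fun i => hw ∅ i
  obtain ⟨t, f, hf⟩ := (post_injective_iff D X).1 (h (Finset ι) D) ∅ _ _ he
  have he' : pushout.inl (u' t) (u' t) = pushout.inr (u' t) (u' t) :=
    (pushout.inl_desc _ _ _).symm.trans (hf.trans (pushout.inr_desc _ _ _))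
  refine ⟨t, ⟨fun {Z} a b hab => ?_⟩⟩
  rw [← pushout.inl_desc a b (show u' t ≫ a = u' t ≫ b from hab), he', pushout.inr_desc]

theorem exists_finite_qc_epi (hE : HasQCGenerators J) {X : Sh J} (hX : IsQC X) :
    ∃ (K : Sh J) (p : K ⟶ X), Epi p ∧ IsQC K := by
  obtain ⟨ι, F, π, hF, hπ⟩ := hE X
  obtain ⟨s, hs⟩ := hX ι F π hπ
  exact ⟨_, _, hs, qc_sigma_finite _ fun i : s => hF i⟩

theorem desc_of_epi {K X W : Sh J} (p : K ⟶ X) [Epi p] (φ : K ⟶ W)
    (h : pullback.fst p p ≫ φ = pullback.snd p p ≫ φ) : ∃ a : X ⟶ W, p ≫ a = φ := by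
  obtain ⟨a, ha⟩ := exists_desc (jepi_punit p) (fun _ => φ) (fun _ _ => h)
  exact ⟨a, ha PUnit.unit⟩

theorem hom_colimit_bijective (hE : HasQCGenerators J) {X : Sh J} (hX : IsCoherent X) {I : Type u}
    [SmallCategory I] [IsFiltered I] (D : I ⥤ Sh J) :
    Function.Bijective (colimit.post D (coyoneda.obj (op X))) := by
  classical
  refine ⟨hom_colimit_injective hX.1 D, (post_surjective_iff D X).2 fun c => ?_⟩
  -- local lifts
  choose κ G ρ hG hρ using fun i => hE (pullback (colimit.ι D i) c)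
  obtain ⟨s, hs⟩ := hX.1 _ _ _ (jepi_bind (fun i => pullback.snd (colimit.ι D i) c)
    (jepi_pullback _ (jepi_colimit_ι D) c) ρ hρ)
  obtain ⟨j, hj⟩ := IsFiltered.sup_objs_exists (s.image fun p => p.1)
  let m : ∀ p : s, p.1.1 ⟶ j := fun p => (hj (Finset.mem_image_of_mem _ p.2)).some
  let K : Sh J := ∐ fun p : s => G p.1.1 p.1.2
  let q : K ⟶ X := Sigma.desc fun p : s => ρ p.1.1 p.1.2 ≫ pullback.snd (colimit.ι D p.1.1) c
  have : Epi q := hs
  let l : K ⟶ D.obj j :=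
    Sigma.desc fun p : s => ρ p.1.1 p.1.2 ≫ pullback.fst (colimit.ι D p.1.1) c ≫ D.map (m p)
  have hl : l ≫ colimit.ι D j = q ≫ c := by
    refine Limits.Sigma.hom_ext _ _ fun p => ?_
    simp [l, q, colimit.w, pullback.condition]
  have hK : IsQC K := qc_sigma_finite _ fun p => hG _ _
  have hR : IsQC (pullback q q) := hX.2 K K q q hK hK
  obtain ⟨k, f, hf⟩ := exists_stage_eq D hR (pullback.fst q q ≫ l) (pullback.snd q q ≫ l) (by
    simp only [Category.assoc, hl]
    rw [pullback.condition_assoc])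
  obtain ⟨a, ha⟩ := desc_of_epi q (l ≫ D.map f) (by simpa using hf)
  refine ⟨k, a, ?_⟩
  rw [← cancel_epi q, reassoc_of% ha, colimit.w, hl]

theorem isFP_of_isCoherent (hE : HasQCGenerators J) {X : Sh J} (hX : IsCoherent X) : IsFP X :=
  fun _ _ _ D => hom_colimit_bijective hE hX D

theorem isFP_of_retract {X Y : Sh J} (i : X ⟶ Y) (p : Y ⟶ X) (hip : i ≫ p = 𝟙 X) (hY : IsFP Y) :
    IsFP X := by
  intro I _ _ D
  refine ⟨(post_injective_iff D X).2 fun k a b h => ?_, (post_surjective_iff D X).2 fun c => ?_⟩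
  · obtain ⟨j, f, hf⟩ := (post_injective_iff D Y).1 (hY I D).1 k (p ≫ a) (p ≫ b)
      (by rw [Category.assoc, h, Category.assoc])
    refine ⟨j, f, ?_⟩
    simpa [reassoc_of% hip] using congr_arg (fun m => i ≫ m) hf
  · obtain ⟨k, a, ha⟩ := (post_surjective_iff D Y).1 (hY I D).2 (p ≫ c)
    exact ⟨k, i ≫ a, by rw [Category.assoc, ha, reassoc_of% hip]⟩

theorem isFP_coequalizer {X₀ X₁ : Sh J} (a b : X₁ ⟶ X₀) (h₀ : IsFP X₀) (h₁ : IsFP X₁) :
    IsFP (coequalizer a b) := by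
  intro I _ _ D
  refine ⟨(post_injective_iff D _).2 fun k x y h => ?_, (post_surjective_iff D _).2 fun c => ?_⟩
  · obtain ⟨j, f, hf⟩ := (post_injective_iff D X₀).1 (h₀ I D).1 k (coequalizer.π a b ≫ x)
      (coequalizer.π a b ≫ y) (by rw [Category.assoc, h, Category.assoc])
    exact ⟨j, f, (cancel_epi (coequalizer.π a b)).1 (by simpa using hf)⟩
  · obtain ⟨k, x, hx⟩ := (post_surjective_iff D X₀).1 (h₀ I D).2 (coequalizer.π a b ≫ c)
    obtain ⟨j, f, hf⟩ := (post_injective_iff D X₁).1 (h₁ I D).1 k (a ≫ x) (b ≫ x)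
      (by rw [Category.assoc, Category.assoc, hx, coequalizer.condition_assoc])
    refine ⟨j, coequalizer.desc (x ≫ D.map f) (by simpa using hf), coequalizer.hom_ext ?_⟩
    simp [hx, colimit.w]

/-- Every object is a filtered colimit of coequalisers of finite sums of generators. -/
theorem exists_presentation (P : Sh J → Prop)
    (hgen : ∀ Z : Sh J, ∃ (ι : Type u) (F : ι → Sh J) (π : ∀ i, F i ⟶ Z),
      (∀ i, P (F i)) ∧ Epi (Sigma.desc π)) (X : Sh J) :
    ∃ (I : Type u) (_ : SmallCategory I) (_ : IsFiltered I) (D : I ⥤ Sh J),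
      Nonempty (X ≅ colimit D) ∧ ∀ s, ∃ (A B : Type u) (_ : Finite A) (_ : Finite B)
        (F : A → Sh J) (G : B → Sh J) (a b : (∐ G) ⟶ ∐ F),
        (∀ x, P (F x)) ∧ (∀ x, P (G x)) ∧ Nonempty (D.obj s ≅ coequalizer a b) := by
  classical
  obtain ⟨ι, F, π, hF, hπ⟩ := hgen X
  choose κ G ρ hG hρ using fun p : ι × ι => hgen (pullback (π p.1) (π p.2))
  let Idx := {st : Finset ι × Finset (Σ p : ι × ι, κ p) // ∀ q ∈ st.2, q.1.1 ∈ st.1 ∧ q.1.2 ∈ st.1}
  haveI : Nonempty Idx := ⟨⟨(∅, ∅), by simp⟩⟩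
  haveI : IsDirected Idx (· ≤ ·) := ⟨fun x y => ⟨⟨x.1 ⊔ y.1, fun q hq => by
    rcases Finset.mem_union.1 hq with h | h
    · exact ⟨Finset.mem_union_left _ (x.2 q h).1, Finset.mem_union_left _ (x.2 q h).2⟩
    · exact ⟨Finset.mem_union_right _ (y.2 q h).1, Finset.mem_union_right _ (y.2 q h).2⟩⟩,
    (le_sup_left : x.1 ≤ x.1 ⊔ y.1), (le_sup_right : y.1 ≤ x.1 ⊔ y.1)⟩⟩
  let src : Idx → Sh J := fun z => ∐ fun i : z.1.1 => F i
  let rel : Idx → Sh J := fun z => ∐ fun q : z.1.2 => G q.1.1 q.1.2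
  let l : ∀ z : Idx, rel z ⟶ src z := fun z => Sigma.desc fun q =>
    ρ q.1.1 q.1.2 ≫ pullback.fst _ _ ≫ Sigma.ι (fun i : z.1.1 => F i) ⟨q.1.1.1, (z.2 q.1 q.2).1⟩
  let r : ∀ z : Idx, rel z ⟶ src z := fun z => Sigma.desc fun q =>
    ρ q.1.1 q.1.2 ≫ pullback.snd _ _ ≫ Sigma.ι (fun i : z.1.1 => F i) ⟨q.1.1.2, (z.2 q.1 q.2).2⟩
  let tr : ∀ {z z' : Idx}, z ≤ z' → (src z ⟶ src z') := fun {z z'} h =>
    Sigma.desc fun i => Sigma.ι (fun i : z'.1.1 => F i) ⟨i.1, h.1 i.2⟩
  let D : Idx ⥤ Sh J :=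
    { obj := fun z => coequalizer (l z) (r z)
      map := fun {z z'} f => coequalizer.desc (tr (leOfHom f) ≫ coequalizer.π _ _)
        (Limits.Sigma.hom_ext _ _ fun q => by
          simpa [l, r, tr, rel] using congr_arg
            (fun m => Sigma.ι (fun q : z'.1.2 => G q.1.1 q.1.2) ⟨q.1, (leOfHom f).2 q.2⟩ ≫ m)
            (coequalizer.condition (l z') (r z')))
      map_id := fun z => coequalizer.hom_ext (Limits.Sigma.hom_ext _ _ fun i => by simp [tr, src])
      map_comp := fun f g => coequalizer.hom_ext (Limits.Sigma.hom_ext _ _ fun i => by simp [tr, src]) }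
  let c : Cocone D :=
    { pt := X
      ι :=
        { app := fun z => coequalizer.desc (Sigma.desc fun i : z.1.1 => π i)
            (Limits.Sigma.hom_ext _ _ fun q => by simp [l, r, rel, src, pullback.condition])
          naturality := fun z z' f => coequalizer.hom_ext (Limits.Sigma.hom_ext _ _ fun i => by
            simp [D, tr, src]) } }
  let v : ∀ z : Idx, ∀ i ∈ z.1.1, F i ⟶ D.obj z := fun z i hi =>
    Sigma.ι (fun i : z.1.1 => F i) ⟨i, hi⟩ ≫ coequalizer.π _ _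
  have hvw : ∀ {z z' : Idx} (f : z ⟶ z') (i : ι) (hi : i ∈ z.1.1),
      v z i hi ≫ D.map f = v z' i ((leOfHom f).1 hi) := fun f i hi => by
    simp [v, D, tr, src]
  have hone : ∀ i : ι, ∀ q ∈ (∅ : Finset (Σ p : ι × ι, κ p)),
      q.1.1 ∈ ({i} : Finset ι) ∧ q.1.2 ∈ ({i} : Finset ι) := by simp
  have hcomp : ∀ (d : Cocone D), ∀ i j,
      pullback.fst (π i) (π j) ≫ v ⟨({i}, ∅), hone i⟩ i (Finset.mem_singleton_self i) ≫ d.ι.app _ =
        pullback.snd (π i) (π j) ≫ v ⟨({j}, ∅), hone j⟩ j (Finset.mem_singleton_self j) ≫ d.ι.app _ := by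
    intro d i j
    refine jepi_cancel (hρ (i, j)) _ _ fun k => ?_
    let z : Idx := ⟨({i, j}, {⟨(i, j), k⟩}), by simp⟩
    let fi : (⟨({i}, ∅), hone i⟩ : Idx) ⟶ z := homOfLE ⟨by simp [z], by simp⟩
    let fj : (⟨({j}, ∅), hone j⟩ : Idx) ⟶ z := homOfLE ⟨by simp [z], by simp⟩
    rw [← d.w fi, ← d.w fj, reassoc_of% hvw fi, reassoc_of% hvw fj]
    let q : z.1.2 := ⟨⟨(i, j), k⟩, by simp [z]⟩
    have hl : Sigma.ι (fun q : z.1.2 => G q.1.1 q.1.2) q ≫ l z ≫ coequalizer.π (l z) (r z) =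
        ρ (i, j) k ≫ pullback.fst _ _ ≫ v z i (z.2 q.1 q.2).1 :=
      (Category.assoc _ _ _).symm.trans ((congrArg (· ≫ _) (Sigma.ι_desc _ _)).trans (by simp only [Category.assoc]; rfl))
    have hr : Sigma.ι (fun q : z.1.2 => G q.1.1 q.1.2) q ≫ r z ≫ coequalizer.π (l z) (r z) =
        ρ (i, j) k ≫ pullback.snd _ _ ≫ v z j (z.2 q.1 q.2).2 :=
      (Category.assoc _ _ _).symm.trans ((congrArg (· ≫ _) (Sigma.ι_desc _ _)).trans (by simp only [Category.assoc]; rfl))
    have he := congr_arg (fun m => Sigma.ι (fun q : z.1.2 => G q.1.1 q.1.2) q ≫ m)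
      (coequalizer.condition (l z) (r z))
    have he' := congr_arg (fun m => m ≫ d.ι.app z) (hl.symm.trans (he.trans hr))
    simpa only [Category.assoc] using he'
  choose desc hdesc using fun d : Cocone D => exists_desc hπ _ (hcomp d)
  have hv : ∀ (z : Idx) i (hi : i ∈ z.1.1), v z i hi ≫ c.ι.app z = π i := fun z i hi => by
    simp [v, c, src]
  have hc : IsColimit c :=
    { desc := desc
      fac := fun d z => coequalizer.hom_ext (Limits.Sigma.hom_ext _ _ fun i => by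
        let f : (⟨({i.1}, ∅), hone i.1⟩ : Idx) ⟶ z := homOfLE ⟨by simpa using i.2, by simp⟩
        have h1 : v z i.1 i.2 ≫ c.ι.app z ≫ desc d = v z i.1 i.2 ≫ d.ι.app z := by
          rw [reassoc_of% hv, hdesc, ← d.w f, reassoc_of% hvw f]
        simpa [v, src] using h1)
      uniq := fun d m hm => jepi_cancel hπ _ _ fun i => by
        rw [hdesc, ← hm, reassoc_of% hv] }
  exact ⟨Idx, inferInstance, inferInstance, D,
    ⟨hc.coconePointUniqueUpToIso (colimit.isColimit D)⟩,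
    fun z => ⟨_, _, inferInstance, inferInstance, _, _, l z, r z, fun x => hF _, fun x => hG _ _,
      ⟨Iso.refl _⟩⟩⟩

theorem retract_of_isFP (P : Sh J → Prop)
    (hgen : ∀ Z : Sh J, ∃ (ι : Type u) (F : ι → Sh J) (π : ∀ i, F i ⟶ Z),
      (∀ i, P (F i)) ∧ Epi (Sigma.desc π)) {X : Sh J} (hX : IsFP X) :
    ∃ (A B : Type u) (_ : Finite A) (_ : Finite B) (F : A → Sh J) (G : B → Sh J) (a b : (∐ G) ⟶ ∐ F)
      (i : X ⟶ coequalizer a b) (p : coequalizer a b ⟶ X),
      (∀ x, P (F x)) ∧ (∀ x, P (G x)) ∧ i ≫ p = 𝟙 X := by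
  obtain ⟨I, _, _, D, ⟨e⟩, hD⟩ := exists_presentation P hgen X
  obtain ⟨s, i₀, hi₀⟩ := (post_surjective_iff D X).1 (hX I D).2 e.hom
  obtain ⟨A, B, _, _, F, G, a, b, hF, hG, ⟨w⟩⟩ := hD s
  exact ⟨A, B, inferInstance, inferInstance, F, G, a, b, i₀ ≫ w.hom, w.inv ≫ colimit.ι D s ≫ e.inv,
    hF, hG, by rw [Category.assoc, Iso.hom_inv_id_assoc, reassoc_of% hi₀, Iso.hom_inv_id]⟩

theorem coherent_sigma_finite {A : Type u} [Finite A] (F : A → Sh J) (h : ∀ x, IsCoherent (F x)) :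
    IsCoherent (∐ F) :=
  ⟨qc_sigma_finite F fun x => (h x).1, qs_sigma F fun x => (h x).2⟩

theorem coherent_of_retract {X Y : Sh J} (i : X ⟶ Y) (p : Y ⟶ X) (hip : i ≫ p = 𝟙 X)
    (hY : IsCoherent Y) : IsCoherent X := by
  haveI : IsSplitEpi p := IsSplitEpi.mk' ⟨i, hip⟩
  haveI : IsSplitMono i := IsSplitMono.mk' ⟨p, hip⟩
  exact ⟨qc_of_epi p hY.1, qs_of_mono i hY.2⟩

theorem isFP_iff_retract (hE : HasCoherentGenerators J) (X : Sh J) :
    IsFP X ↔ ∃ (X₀ X₁ : Sh J) (a b : X₁ ⟶ X₀) (i : X ⟶ coequalizer a b)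
      (p : coequalizer a b ⟶ X), IsCoherent X₀ ∧ IsCoherent X₁ ∧ i ≫ p = 𝟙 X := by
  have hE' : HasQCGenerators J := fun Z => by
    obtain ⟨ι, F, π, hF, hπ⟩ := hE Z
    exact ⟨ι, F, π, fun i => (hF i).1, hπ⟩
  constructor
  · intro hX
    obtain ⟨A, B, _, _, F, G, a, b, i, p, hF, hG, h⟩ := retract_of_isFP IsCoherent hE hX
    exact ⟨_, _, a, b, i, p, coherent_sigma_finite F hF, coherent_sigma_finite G hG, h⟩
  · rintro ⟨X₀, X₁, a, b, i, p, h₀, h₁, h⟩
    exact isFP_of_retract i p h (isFP_coequalizer a b (isFP_of_isCoherent hE' h₀) (isFP_of_isCoherent hE' h₁))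

end Groth.Agent.Topos
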