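import Groth.Agent.Lib.ToposFin.QS

/-!
# Consequences: sites with quasi-compact objects, coproducts
-/

set_option autoImplicit false

universe u w w'

open CategoryTheory CategoryTheory.Limits Opposite ToposFin

namespace Groth.Agent.Topos

variable {C : Type u} [SmallCategory C] (J : GrothendieckTopology C)

theorem eps_hom_ext {Z : Sh J} {U : C} (a b : eps J U ⟶ Z)
    (h : a.hom.app (op U) (epsSec J (𝟙 U)) = b.hom.app (op U) (epsSec J (𝟙 U))) : a = b := by
  apply ((sheafificationAdjunction J (Type u)).homEquiv _ _).injective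
  apply yonedaEquiv.injective
  rw [Adjunction.homEquiv_unit, Adjunction.homEquiv_unit, yonedaEquiv_apply, yonedaEquiv_apply]
  exact h

/-- Every object over `eps J X` is covered by representables over `X`. -/
theorem exists_cover_over_eps {X : C} {G : Sh J} (g : G ⟶ eps J X) :
    ∃ (ι : Type u) (V : ι → C) (h : ∀ i, V i ⟶ X) (π : ∀ i, eps J (V i) ⟶ G),
      Epi (Sigma.desc π) ∧ ∀ i, π i ≫ g = (presheafToSheaf J (Type u)).map (yoneda.map (h i)) := by
  refine ⟨Σ U : C, {p : G.obj.obj (op U) × (U ⟶ X) // g.hom.app (op U) p.1 = epsSec J p.2},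
    fun i => i.1, fun i => i.2.1.2, fun i => epsDesc J i.2.1.1, (jepi_iff _).2 fun U s => ?_,
    fun i => eps_hom_ext J _ _ ?_⟩
  · refine J.transitive (imageSieve_epsSec J (g.hom.app (op U) s)) _ ?_
    rintro V m ⟨r, hr⟩
    refine J.superset_covering ?_ (J.top_mem V)
    intro W c _
    replace hr : epsSec J r = (eps J X).obj.map m.op (g.hom.app (op U) s) := hr
    have h : g.hom.app (op W) (G.obj.map (c ≫ m).op s) = epsSec J (c ≫ r) := by
      rw [NatTrans.naturality_apply, ← epsSec_map, hr, op_comp, Functor.map_comp_apply]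
    exact ⟨⟨W, ⟨_, _⟩, h⟩, epsSec J (𝟙 W), epsDesc_epsSec J _⟩
  · rw [comp_app_apply, epsDesc_epsSec, i.2.2, eps_map_epsSec, Category.id_comp]

theorem isPullback_eps [HasPullbacks C] {U V X : C} (h : U ⟶ X) (k : V ⟶ X) :
    IsPullback ((presheafToSheaf J (Type u)).map (yoneda.map (pullback.fst h k)))
      ((presheafToSheaf J (Type u)).map (yoneda.map (pullback.snd h k)))
      ((presheafToSheaf J (Type u)).map (yoneda.map h))
      ((presheafToSheaf J (Type u)).map (yoneda.map k)) :=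
  ((IsPullback.of_hasPullback h k).map yoneda).map (presheafToSheaf J (Type u))

theorem isQCHom_eps_map [HasPullbacks C] (hC : ∀ X : C, IsQCSite J X) {U X : C} (h : U ⟶ X) :
    IsQCHom ((presheafToSheaf J (Type u)).map (yoneda.map h)) := by
  refine qcHom_of_cover _ fun Y' g _ => ?_
  obtain ⟨ι, V, k, π, hπ, hk⟩ := exists_cover_over_eps J g
  refine ⟨ι, _, π, hπ, fun i => ?_⟩
  refine qc_iso (pullback.congrHom rfl (hk i)).symm ?_
  exact qc_iso (isPullback_eps J h (k i)).isoPullback ((isQCSite_iff_isQC_eps J _).1 (hC _))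

theorem isCoherent_eps [HasPullbacks C] (hC : ∀ X : C, IsQCSite J X) (X : C) :
    IsCoherent (eps J X) := by
  refine ⟨(isQCSite_iff_isQC_eps J X).1 (hC X), isQS_iff.2 fun Z a hZ => ?_⟩
  obtain ⟨ι, V, k, π, hπ, hk⟩ := exists_cover_over_eps J a
  obtain ⟨s, hs⟩ := hZ ι _ π hπ
  exact qcHom_of_finite_source a (fun i : s => π i.1) hs fun i => hk i.1 ▸ isQCHom_eps_map J hC _

theorem qsHom_to_eps [HasPullbacks C] (hC : ∀ X : C, IsQCSite J X) {X : C} {G : Sh J}
    (g : G ⟶ eps J X) (hG : IsQS G) : IsQSHom g := by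
  obtain ⟨ι, V, k, π, hπ, hk⟩ := exists_cover_over_eps J g
  refine qsHom_of_cover_qs_products (hasQCGenerators J hC) g π hπ
    (fun i => (isQCSite_iff_isQC_eps J _).1 (hC _)) (fun i j => ?_) hG
  exact qs_of_mono ((pullback.congrHom (hk i) (hk j)).hom ≫
    (isPullback_eps J (k i) (k j)).isoPullback.inv) (isCoherent_eps J hC _).2

theorem qs_pullback_over_eps [HasPullbacks C] (hC : ∀ X : C, IsQCSite J X) {X : C} {G H : Sh J}
    (g : G ⟶ eps J X) (h : H ⟶ eps J X) (hG : IsQS G) (hH : IsQS H) : IsQS (pullback g h) :=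
  qs_of_qsHom (pullback.fst g h)
    (qsHom_isPullback (IsPullback.of_hasPullback g h).flip (qsHom_to_eps J hC h hH)) hG

theorem isCoherent_pullback_over_eps [HasPullbacks C] (hC : ∀ X : C, IsQCSite J X) {G H F : Sh J}
    (a : G ⟶ F) (b : H ⟶ F) (hG : IsCoherent G) (hH : IsCoherent H) (hF : IsCoherent F) {X : C}
    (w : F ⟶ eps J X) : IsCoherent (pullback a b) :=
  ⟨hF.2 G H a b hG.1 hH.1, qs_of_qsHom (pullback.fst a b)
    (qsHom_isPullback (IsPullback.of_hasPullback a b).flip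
      (qsHom_of_comp b w (qsHom_to_eps J hC (b ≫ w) hH.2))) hG.2⟩

variable {J}

theorem qsHom_cofan_desc_iff {Y : Sh J} {ι : Type u} (X : ι → Sh J) (c : Cofan X) (hc : IsColimit c)
    (f : c.pt ⟶ Y) : IsQSHom f ↔ ∀ i, IsQSHom (c.inj i ≫ f) := by
  refine ⟨fun h i => ?_, fun h => ?_⟩
  · have := mono_cofan_inj c hc i
    exact qsHom_comp (qsHom_of_mono (c.inj i)) h
  · exact qsHom_of_source_cover f c.inj (jepi_cofan c hc) (qcHom_cofan_inj c hc) h

theorem cofan_desc_iff_of_finite {Y : Sh J} {n : ℕ} (X : Fin n → Sh J) (c : Cofan X) (hc : IsColimit c)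
    (f : c.pt ⟶ Y) :
    (IsQCHom f ↔ ∀ i, IsQCHom (c.inj i ≫ f)) ∧ (IsCohHom f ↔ ∀ i, IsCohHom (c.inj i ≫ f)) := by
  -- reindex by a type in universe `u`
  let c' : Cofan fun i : ULift.{u} (Fin n) => X i.down := Cofan.mk c.pt fun i => c.inj i.down
  have hc' : IsColimit c' := Cofan.IsColimit.mk c'
    (fun s => Cofan.IsColimit.desc hc fun i => s.inj ⟨i⟩)
    (fun s i => by
      show c.inj i.down ≫ _ = _
      rw [Cofan.IsColimit.fac])
    (fun s m hm => Cofan.IsColimit.hom_ext hc _ _ fun i => by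
      rw [Cofan.IsColimit.fac]; exact hm ⟨i⟩)
  have hj : ∀ i, IsQCHom (c.inj i) := fun i => qcHom_cofan_inj c' hc' ⟨i⟩
  have h1 : IsQCHom f ↔ ∀ i, IsQCHom (c.inj i ≫ f) :=
    ⟨fun h i => MorphismProperty.comp_mem qcHom _ _ (hj i) h,
      qcHom_of_finite_source f c.inj (jepi_cofan c hc)⟩
  have h2 : IsQSHom f ↔ ∀ i, IsQSHom (c.inj i ≫ f) :=
    (qsHom_cofan_desc_iff _ c' hc' f).trans ⟨fun h i => h ⟨i⟩, fun h i => h i.down⟩
  exact ⟨h1, fun h i => ⟨h1.1 h.1 i, h2.1 h.2 i⟩,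
    fun h => ⟨h1.2 fun i => (h i).1, h2.2 fun i => (h i).2⟩⟩

theorem nonempty_iso_initial {X : Sh J} (h : ∀ (U : C) (_ : X.obj.obj (op U)), (⊥ : Sieve U) ∈ J U) :
    Nonempty (X ≅ ⊥_ (Sh J)) := by
  have : Epi (initial.to X) := by
    refine (epi_iff_lift _).2 fun U s => J.superset_covering bot_le (h U s)
  have := isIso_of_mono_of_epi (initial.to X)
  exact ⟨(asIso (initial.to X)).symm⟩

theorem isQC_sigma_iff {ι : Type u} (F : ι → Sh J) :
    IsQC (∐ F) ↔ (∀ i, IsQC (F i)) ∧ {i | IsEmpty (F i ≅ ⊥_ (Sh J))}.Finite := by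
  constructor
  · intro h
    obtain ⟨s, hs⟩ := h ι F (Sigma.ι F) (jepi_sigma_ι F)
    refine ⟨qc_of_qc_sigma F h, s.finite_toSet.subset fun i hi => ?_⟩
    by_contra hn
    refine hi.false (Classical.choice (nonempty_iso_initial fun U t => ?_))
    refine J.transitive ((jepi_iff _).1 hs U ((Sigma.ι F i).hom.app (op U) t)) _ ?_
    rintro V g ⟨⟨j, hj⟩, r, hr⟩
    rw [← NatTrans.naturality_apply] at hr
    exact J.superset_covering bot_le
      (sigma_ι_disjoint F (fun e : j = i => hn (e ▸ hj)) r _ hr)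
  · rintro ⟨hqc, hfin⟩
    have : Finite {i | IsEmpty (F i ≅ ⊥_ (Sh J))} := hfin.to_subtype
    refine qc_of_finite_family (fun i : {i | IsEmpty (F i ≅ ⊥_ (Sh J))} => Sigma.ι F i.1) ?_
      fun i => hqc i.1
    refine ⟨fun {Z} a b hab => Limits.Sigma.hom_ext _ _ fun i => ?_⟩
    by_cases hi : IsEmpty (F i ≅ ⊥_ (Sh J))
    · simpa using congr_arg
        (fun m => Sigma.ι (fun i : {i | IsEmpty (F i ≅ ⊥_ (Sh J))} => F i.1) ⟨i, hi⟩ ≫ m) hab
    · obtain ⟨e⟩ := not_isEmpty_iff.1 hi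
      exact (initialIsInitial.ofIso e.symm).hom_ext _ _

end Groth.Agent.Topos
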