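import Mathlib.CategoryTheory.Sites.Point.Conservative
import Mathlib.CategoryTheory.Sites.Point.OfIsCofiltered
import Mathlib.CategoryTheory.Limits.Shapes.FiniteLimits
import Mathlib.CategoryTheory.Limits.Shapes.WidePullbacks
import Mathlib.Order.Filter.Ultrafilter.Basic
import Mathlib.Order.Filter.AtTopBot.Basic
import Mathlib.Data.Finset.Union

/-!
# Deligne's theorem on points of coherent sites

For a non covering sieve, a point detecting it is built by an `ω`-iteration: at each stage all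
covering tasks are solved simultaneously, the choices being made by an ultrafilter (compactness).
-/

universe u

open CategoryTheory Limits

namespace Groth.Agent.ToposFin.Deligne

variable {C : Type u} [SmallCategory C] [HasFiniteLimits C] (J : GrothendieckTopology C)

/-- A directed system over `X` along which `S₀` never becomes covering. -/
structure State {X : C} (S₀ : Sieve X) where
  I : Type u
  [pre : Preorder I]
  ne : Nonempty I
  dir : ∀ i j : I, ∃ k, i ≤ k ∧ j ≤ k
  D : I → C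
  str : ∀ i, D i ⟶ X
  res : ∀ {i j : I}, i ≤ j → (D j ⟶ D i)
  res_refl : ∀ i, res (le_refl i) = 𝟙 (D i)
  res_trans : ∀ {i j k : I} (h₁ : i ≤ j) (h₂ : j ≤ k), res h₂ ≫ res h₁ = res (h₁.trans h₂)
  res_str : ∀ {i j : I} (h : i ≤ j), res h ≫ str i = str j
  good : ∀ i, S₀.pullback (str i) ∉ J (D i)

attribute [instance] State.pre

variable {J} {X : C} {S₀ : Sieve X} (s : State J S₀)

/-- A finite covering family to be met. -/
structure Task where
  idx : s.I
  Y : C
  n : ℕ
  V : Fin n → C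
  g : ∀ k, V k ⟶ Y
  mem : Sieve.ofArrows V g ∈ J Y
  f : s.D idx ⟶ Y

/-- Indices of the next stage. -/
abbrev Next : Type u := {p : s.I × Finset (Task s) // ∀ t ∈ p.2, t.idx ≤ p.1}


variable {s}

/-- A choice of members of the coverings. -/
abbrev Choice (p : Next s) : Type u := ULift.{u} (∀ t : p.1.2, Fin t.1.n)

/-- The objects to be multiplied. -/
noncomputable abbrev leg (p : Next s) (c : Choice p) (t : p.1.2) : C :=
  pullback (t.1.g (c.down t)) (s.res (p.2 t.1 t.2) ≫ t.1.f)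

/-- The fibre product attached to a choice. -/
noncomputable abbrev fib (p : Next s) (c : Choice p) : C :=
  widePullback (s.D p.1.1) (leg p c) (fun _ => pullback.snd _ _)

/-- Its projection. -/
noncomputable def fibBase (p : Next s) (c : Choice p) : fib p c ⟶ s.D p.1.1 :=
  WidePullback.base _

/-- Its component at a task. -/
noncomputable def fibLeg (p : Next s) (c : Choice p) (t : p.1.2) : fib p c ⟶ t.1.V (c.down t) :=
  WidePullback.π _ t ≫ pullback.fst _ _

theorem fibLeg_w (p : Next s) (c : Choice p) (t : p.1.2) :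
    fibLeg p c t ≫ t.1.g (c.down t) = fibBase p c ≫ s.res (p.2 t.1 t.2) ≫ t.1.f := by
  rw [fibLeg, Category.assoc, pullback.condition, fibBase,
    ← WidePullback.π_arrow (fun _ => pullback.snd _ _) t]
  simp

/-- The universal property, existence. -/
theorem exists_fibLift (p : Next s) (c : Choice p) {Z : C} (h : Z ⟶ s.D p.1.1)
    (a : ∀ t : p.1.2, Z ⟶ t.1.V (c.down t))
    (w : ∀ t : p.1.2, a t ≫ t.1.g (c.down t) = h ≫ s.res (p.2 t.1 t.2) ≫ t.1.f) :
    ∃ l : Z ⟶ fib p c, l ≫ fibBase p c = h ∧ ∀ t, l ≫ fibLeg p c t = a t :=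
  ⟨WidePullback.lift h (fun t => pullback.lift (a t) h (w t)) (fun _ => pullback.lift_snd _ _ _),
    WidePullback.lift_base _ _ _ _, fun t => by
      rw [fibLeg, WidePullback.lift_π_assoc]
      exact pullback.lift_fst _ _ _⟩

theorem fib_hom_ext (p : Next s) (c : Choice p) {Z : C} {l₁ l₂ : Z ⟶ fib p c}
    (hb : l₁ ≫ fibBase p c = l₂ ≫ fibBase p c) (hl : ∀ t, l₁ ≫ fibLeg p c t = l₂ ≫ fibLeg p c t) :
    l₁ = l₂ := by
  refine WidePullback.hom_ext _ _ _ (fun t => pullback.hom_ext ?_ ?_) hb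
  · simpa [fibLeg] using hl t
  · rw [Category.assoc, Category.assoc, WidePullback.π_arrow]
    exact hb

/-- A choice is good if `S₀` does not become covering on the fibre product. -/
def Good (p : Next s) (c : Choice p) : Prop :=
  S₀.pullback (fibBase p c ≫ s.str p.1.1) ∉ J (fib p c)

theorem exists_good (p : Next s) : ∃ c : Choice p, Good p c := by
  classical
  by_contra hno
  simp only [Good, not_exists, not_not] at hno
  obtain ⟨⟨i, F⟩, hp⟩ := p
  -- the arrows on which a choice is possible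
  let R : Task s → Sieve (s.D i) := fun t =>
    if h : t.idx ≤ i then (Sieve.ofArrows t.V t.g).pullback (s.res h ≫ t.f) else ⊤
  have hR : ∀ t, R t ∈ J (s.D i) := fun t => by
    simp only [R]
    split_ifs with h
    · exact J.pullback_stable _ t.mem
    · exact J.top_mem _
  have hF : F.inf R ∈ J (s.D i) :=
    Finset.inf_induction (p := fun T => T ∈ J (s.D i)) (J.top_mem _)
      (fun a ha b hb => J.intersection_covering ha hb) (fun t _ => hR t)
  refine s.good i (J.transitive hF _ fun Z h hh => ?_)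
  have hch : ∀ t : F, ∃ (k : Fin t.1.n) (a : Z ⟶ t.1.V k), a ≫ t.1.g k = h ≫ s.res (hp t.1 t.2) ≫ t.1.f := fun t => by
    have := (Finset.inf_le t.2 : F.inf R ≤ R t.1) _ hh
    simp only [R, dif_pos (hp t.1 t.2), Sieve.pullback_apply] at this
    obtain ⟨_, a, _, ⟨k⟩, e⟩ := this
    exact ⟨k, a, e⟩
  choose k a ha using hch
  obtain ⟨l, hl, -⟩ := exists_fibLift (⟨(i, F), hp⟩ : Next s) ⟨k⟩ h a ha
  have := J.pullback_stable l (hno ⟨k⟩)
  rwa [← Sieve.pullback_comp, ← Category.assoc, hl, Sieve.pullback_comp] at this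

theorem next_nonempty : Nonempty (Next s) :=
  let ⟨i⟩ := s.ne
  ⟨⟨(i, ∅), fun t ht => absurd ht (Finset.notMem_empty t)⟩⟩

theorem next_dir (p q : Next s) : ∃ r, p ≤ r ∧ q ≤ r := by
  classical
  obtain ⟨k, h₁, h₂⟩ := s.dir p.1.1 q.1.1
  refine ⟨⟨(k, p.1.2 ∪ q.1.2), fun t ht => ?_⟩, ⟨h₁, Finset.subset_union_left⟩,
    ⟨h₂, Finset.subset_union_right⟩⟩
  rcases Finset.mem_union.mp ht with h | h
  · exact (p.2 t h).trans h₁
  · exact (q.2 t h).trans h₂

theorem task_pos (t : Task s) : 0 < t.n := by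
  classical
  obtain ⟨c, -⟩ := exists_good (⟨(t.idx, {t}), fun t' ht => (Finset.mem_singleton.mp ht) ▸ le_rfl⟩ : Next s)
  exact Fin.pos (c.down ⟨t, Finset.mem_singleton_self t⟩)

/-- Restriction of a choice. -/
abbrev restr (c : ∀ t : Task s, Fin t.n) (p : Next s) : Choice p := ⟨fun t => c t.1⟩

theorem good_of_le {p q : Next s} (h : p ≤ q) (d : Choice q)
    (hd : Good q d) : Good p ⟨fun t => d.down ⟨t.1, h.2 t.2⟩⟩ := by
  let e : Choice p := ⟨fun t => d.down ⟨t.1, h.2 t.2⟩⟩
  obtain ⟨l, hl, -⟩ := exists_fibLift p e (fibBase q d ≫ s.res h.1)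
    (fun t => fibLeg q d ⟨t.1, h.2 t.2⟩) (fun t => by
      rw [Category.assoc, ← Category.assoc (s.res h.1), s.res_trans]
      exact fibLeg_w q d ⟨t.1, h.2 t.2⟩)
  intro hmem
  apply hd
  have := J.pullback_stable l hmem
  rwa [← Sieve.pullback_comp, ← Category.assoc, hl, Category.assoc, s.res_str] at this

/-- **Compactness**: a global choice all whose restrictions are good. -/
theorem exists_global_choice : ∃ c : ∀ t : Task s, Fin t.n, ∀ p, Good p (restr c p) := by
  classical
  haveI : Nonempty (Next s) := next_nonempty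
  haveI : IsDirectedOrder (Next s) := ⟨next_dir⟩
  choose d hd using fun p : Next s => exists_good p
  let U : Ultrafilter (Next s) := Ultrafilter.of Filter.atTop
  have hU : ∀ p : Next s, {q | p ≤ q} ∈ U := fun p =>
    Ultrafilter.of_le _ (Filter.mem_atTop p)
  let v : ∀ (t : Task s) (q : Next s), Fin t.n := fun t q =>
    if h : t ∈ q.1.2 then (d q).down ⟨t, h⟩ else ⟨0, task_pos t⟩
  have hc : ∀ t, ∃ k, {q | v t q = k} ∈ U := fun t => by
    obtain ⟨k, hk⟩ := Ultrafilter.eq_pure_of_finite (U.map (v t))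
    refine ⟨k, ?_⟩
    have : ({k} : Set (Fin t.n)) ∈ U.map (v t) := by rw [hk]; exact rfl
    exact this
  choose c hc using hc
  refine ⟨c, fun p => ?_⟩
  obtain ⟨q, hq, hqc⟩ := U.nonempty_of_mem (Filter.inter_mem (hU p)
    ((Filter.biInter_finset_mem p.1.2).mpr fun t _ => hc t))
  have e : restr c p = ⟨fun t => (d q).down ⟨t.1, hq.2 t.2⟩⟩ := by
    refine ULift.ext _ _ (funext fun t => ?_)
    have h1 : v t.1 q = c t.1 := Set.mem_iInter₂.mp hqc t.1 t.2
    simp only [v, dif_pos (hq.2 t.2)] at h1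
    exact h1.symm
  rw [e]
  exact good_of_le hq _ (hd q)

variable (s)

/-- The global choice. -/
noncomputable def choice : ∀ t : Task s, Fin t.n := (exists_global_choice (s := s)).choose

theorem exists_res' {p q : Next s} (h : p ≤ q) :
    ∃ l : fib q (restr (choice s) q) ⟶ fib p (restr (choice s) p),
      l ≫ fibBase p _ = fibBase q _ ≫ s.res h.1 ∧
      ∀ t : p.1.2, l ≫ fibLeg p _ t = fibLeg q (restr (choice s) q) ⟨t.1, h.2 t.2⟩ :=
  exists_fibLift p (restr (choice s) p) _
    (fun t => fibLeg q (restr (choice s) q) ⟨t.1, h.2 t.2⟩) fun t => by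
      rw [Category.assoc, ← Category.assoc (s.res h.1), s.res_trans]
      exact fibLeg_w q (restr (choice s) q) ⟨t.1, h.2 t.2⟩

/-- Transition maps of the next stage. -/
noncomputable def res' {p q : Next s} (h : p ≤ q) :
    fib q (restr (choice s) q) ⟶ fib p (restr (choice s) p) :=
  (exists_res' s h).choose

theorem res'_base {p q : Next s} (h : p ≤ q) :
    res' s h ≫ fibBase p _ = fibBase q _ ≫ s.res h.1 :=
  (exists_res' s h).choose_spec.1

theorem res'_leg {p q : Next s} (h : p ≤ q) (t : p.1.2) :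
    res' s h ≫ fibLeg p _ t = fibLeg q (restr (choice s) q) ⟨t.1, h.2 t.2⟩ :=
  (exists_res' s h).choose_spec.2 t

/-- The next stage. -/
noncomputable def next : State J S₀ where
  I := Next s
  ne := next_nonempty
  dir := next_dir
  D p := fib p (restr (choice s) p)
  str p := fibBase p _ ≫ s.str p.1.1
  res h := res' s h
  res_refl p := fib_hom_ext _ _ (by rw [res'_base, s.res_refl, Category.comp_id, Category.id_comp])
    (fun t => by rw [res'_leg, Category.id_comp])
  res_trans {p q r} h₁ h₂ := fib_hom_ext _ _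
    (by rw [Category.assoc, res'_base, ← Category.assoc, res'_base, Category.assoc, s.res_trans,
      res'_base])
    (fun t => by rw [Category.assoc, res'_leg, res'_leg, res'_leg])
  res_str h := by rw [← Category.assoc, res'_base, Category.assoc, s.res_str]
  good p := (exists_global_choice (s := s)).choose_spec p

/-- The projection to the previous stage. -/
noncomputable def prev (p : (next s).I) : s.I := (p : Next s).1.1

theorem prev_mono {p q : (next s).I} (h : p ≤ q) : prev s p ≤ prev s q := h.1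

/-- The projection map to the previous stage. -/
noncomputable def tau (p : (next s).I) : (next s).D p ⟶ s.D (prev s p) :=
  fibBase (p : Next s) (restr (choice s) p)

theorem tau_nat {p q : (next s).I} (h : p ≤ q) :
    (next s).res h ≫ tau s p = tau s q ≫ s.res (prev_mono s h) :=
  res'_base s h

theorem tau_str (p : (next s).I) : tau s p ≫ s.str (prev s p) = (next s).str p := rfl

variable (S₀)

/-- The initial stage. -/
def init (hS : S₀ ∉ J X) : State J S₀ where
  I := PUnit.{u + 1}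
  ne := ⟨PUnit.unit⟩
  dir _ _ := ⟨PUnit.unit, le_refl _, le_refl _⟩
  D _ := X
  str _ := 𝟙 X
  res _ := 𝟙 X
  res_refl _ := rfl
  res_trans _ _ := Category.id_comp _
  res_str _ := Category.id_comp _
  good _ := by rw [Sieve.pullback_id]; exact hS

variable (hS : S₀ ∉ J X)

/-- The stages. -/
noncomputable def stage : ℕ → State J S₀
  | 0 => init S₀ hS
  | n + 1 => next (stage n)

/-- Objects of the indexing category. -/
structure Node where
  lvl : ℕ
  i : (stage S₀ hS lvl).I

variable {S₀} {hS}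

/-- The underlying object. -/
noncomputable def Node.obj (a : Node S₀ hS) : C := (stage S₀ hS a.lvl).D a.i

/-- The structure map. -/
noncomputable def Node.str (a : Node S₀ hS) : a.obj ⟶ X := (stage S₀ hS a.lvl).str a.i

/-- The transition morphisms. -/
inductive Tr : ∀ a b : Node S₀ hS, (a.obj ⟶ b.obj) → Prop
  | base {n : ℕ} {i j : (stage S₀ hS n).I} (h : j ≤ i) :
      Tr ⟨n, i⟩ ⟨n, j⟩ ((stage S₀ hS n).res h)
  | step {n : ℕ} {i : (stage S₀ hS (n + 1)).I} {b : Node S₀ hS}
      {f : Node.obj (⟨n, prev (stage S₀ hS n) i⟩ : Node S₀ hS) ⟶ b.obj}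
      (hf : Tr ⟨n, prev (stage S₀ hS n) i⟩ b f) :
      Tr ⟨n + 1, i⟩ b (tau (stage S₀ hS n) i ≫ f)

theorem Tr.lvl_le {a b : Node S₀ hS} {f : a.obj ⟶ b.obj} (h : Tr a b f) : b.lvl ≤ a.lvl := by
  induction h with
  | base _ => exact le_rfl
  | step _ ih => exact le_trans ih (Nat.le_succ _)

theorem Tr.unique {a b : Node S₀ hS} {f g : a.obj ⟶ b.obj} (hf : Tr a b f) (hg : Tr a b g) : f = g := by
  induction hf with
  | base h =>
    cases hg with
    | base _ => rfl
    | step hg => exact absurd hg.lvl_le (Nat.not_succ_le_self _)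
  | step hf ih =>
    cases hg with
    | base h => exact absurd hf.lvl_le (Nat.not_succ_le_self _)
    | step hg => rw [ih hg]

theorem Tr.precomp {n : ℕ} {j : (stage S₀ hS n).I} {b : Node S₀ hS}
    {g : Node.obj (⟨n, j⟩ : Node S₀ hS) ⟶ b.obj} (hg : Tr ⟨n, j⟩ b g) :
    ∀ {i : (stage S₀ hS n).I} (h : j ≤ i), Tr ⟨n, i⟩ b ((stage S₀ hS n).res h ≫ g) := by
  suffices H : ∀ (a b : Node S₀ hS) (g : a.obj ⟶ b.obj), Tr a b g →
      ∀ (i : (stage S₀ hS a.lvl).I) (h : a.i ≤ i), Tr ⟨a.lvl, i⟩ b ((stage S₀ hS a.lvl).res h ≫ g) from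
    fun {i} h => H _ b g hg i h
  intro a b g hg
  induction hg with
  | @base n i j h' =>
    intro k h
    show Tr ⟨n, k⟩ ⟨n, j⟩ ((stage S₀ hS n).res h ≫ (stage S₀ hS n).res h')
    exact (congrArg (Tr ⟨n, k⟩ ⟨n, j⟩) ((stage S₀ hS n).res_trans h' h)).mpr (Tr.base _)
  | @step n i b f hf ih =>
    intro k h
    show Tr ⟨n + 1, k⟩ b ((next (stage S₀ hS n)).res h ≫ tau (stage S₀ hS n) i ≫ f)
    refine (congrArg (Tr ⟨n + 1, k⟩ b) ?_).mpr
      (Tr.step (ih (prev (stage S₀ hS n) k) (prev_mono (stage S₀ hS n) h)))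
    exact ((Category.assoc _ _ _).symm.trans
      (congrArg (· ≫ f) (tau_nat (stage S₀ hS n) h))).trans (Category.assoc _ _ _)

theorem Tr.comp {a b c : Node S₀ hS} {f : a.obj ⟶ b.obj} {g : b.obj ⟶ c.obj} (hf : Tr a b f)
    (hg : Tr b c g) : Tr a c (f ≫ g) := by
  induction hf with
  | base h => exact hg.precomp h
  | step _ ih =>
    rw [Category.assoc]
    exact Tr.step (ih hg)

theorem Tr.id (a : Node S₀ hS) : Tr a a (𝟙 a.obj) := by
  have := Tr.base (hS := hS) (le_refl a.i)
  rwa [State.res_refl] at this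

theorem Tr.str {a b : Node S₀ hS} {f : a.obj ⟶ b.obj} (h : Tr a b f) : f ≫ b.str = a.str := by
  induction h with
  | base h => exact (stage S₀ hS _).res_str h
  | @step n i b f _ ih =>
    exact ((Category.assoc _ _ _).trans (congrArg (tau (stage S₀ hS n) i ≫ ·) ih)).trans
      (tau_str (stage S₀ hS n) i)

noncomputable instance : Category.{u} (Node S₀ hS) where
  Hom a b := {f : a.obj ⟶ b.obj // Tr a b f}
  id a := ⟨𝟙 _, Tr.id a⟩
  comp f g := ⟨f.1 ≫ g.1, f.2.comp g.2⟩
  id_comp f := Subtype.ext (Category.id_comp _)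
  comp_id f := Subtype.ext (Category.comp_id _)
  assoc f g h := Subtype.ext (Category.assoc _ _ _)

instance : InitiallySmall.{u} (Node S₀ hS) :=
  initiallySmall_of_essentiallySmall _

/-- The pro-object. -/
noncomputable def pro : Node S₀ hS ⥤ C where
  obj a := a.obj
  map f := f.1

theorem exists_lift (a : Node S₀ hS) (m : ℕ) (hm : a.lvl ≤ m) :
    ∃ i : (stage S₀ hS m).I, Nonempty ((⟨m, i⟩ : Node S₀ hS) ⟶ a) := by
  induction hm with
  | refl => exact ⟨a.i, ⟨𝟙 a⟩⟩
  | @step m _ ih =>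
    obtain ⟨i, ⟨f⟩⟩ := ih
    let p : Next (stage S₀ hS m) := ⟨(i, ∅), fun t ht => absurd ht (Finset.notMem_empty t)⟩
    refine ⟨(p : (stage S₀ hS (m + 1)).I), ⟨⟨tau (stage S₀ hS m) p ≫ f.1, ?_⟩⟩⟩
    exact Tr.step f.2

instance : IsCofiltered (Node S₀ hS) where
  cone_objs a b := by
    obtain ⟨i, ⟨f⟩⟩ := exists_lift a (max a.lvl b.lvl) (le_max_left _ _)
    obtain ⟨j, ⟨g⟩⟩ := exists_lift b (max a.lvl b.lvl) (le_max_right _ _)
    obtain ⟨k, hik, hjk⟩ := (stage S₀ hS _).dir i j
    exact ⟨⟨_, k⟩, ⟨_, Tr.base hik⟩ ≫ f, ⟨_, Tr.base hjk⟩ ≫ g, trivial⟩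
  cone_maps a b f g := ⟨a, 𝟙 a, by rw [Subtype.ext (f.2.unique g.2)]⟩
  nonempty := ⟨⟨0, PUnit.unit⟩⟩

theorem exists_point (hJ : ∀ (U : C) (R : Sieve U), R ∈ J U →
      ∃ (n : ℕ) (V : Fin n → C) (g : ∀ k, V k ⟶ U), (∀ k, R (g k)) ∧ Sieve.ofArrows V g ∈ J U)
    (S₀ : Sieve X) (hS : S₀ ∉ J X) :
    ∃ (Φ : GrothendieckTopology.Point.{u} J) (x : Φ.fiber.obj X),
      ∀ (Y : C) (g : Y ⟶ X), S₀ g → ∀ y : Φ.fiber.obj Y, Φ.fiber.map g y ≠ x := by
  classical
  have hp : ∀ ⦃Y : C⦄ (R : Sieve Y) (_ : R ∈ J Y) ⦃a : Node S₀ hS⦄ (f : pro.obj a ⟶ Y),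
      ∃ (Z : C) (g : Z ⟶ Y) (_ : R g) (b : Node S₀ hS) (q : b ⟶ a) (l : pro.obj b ⟶ Z),
        l ≫ g = pro.map q ≫ f := by
    intro Y R hR a f
    obtain ⟨n, V, g, hg, hmem⟩ := hJ Y R hR
    let s := stage S₀ hS a.lvl
    let t : Task s := ⟨a.i, Y, n, V, g, hmem, f⟩
    let p : Next s := ⟨(a.i, {t}), fun t' ht => by rw [Finset.mem_singleton.mp ht]⟩
    refine ⟨V (choice s t), g _, hg _, ⟨a.lvl + 1, p⟩, ⟨tau s p, ?_⟩,
      fibLeg p (restr (choice s) p) ⟨t, Finset.mem_singleton_self t⟩, ?_⟩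
    · have h := Tr.step (i := (p : (stage S₀ hS (a.lvl + 1)).I)) (Tr.id (hS := hS) a)
      erw [Category.comp_id] at h
      exact h
    · refine (fibLeg_w p (restr (choice s) p) ⟨t, Finset.mem_singleton_self t⟩).trans ?_
      show fibBase p _ ≫ s.res (le_refl a.i) ≫ f = tau s p ≫ f
      rw [s.res_refl, Category.id_comp]
      rfl
  let root : Node S₀ hS := ⟨0, PUnit.unit⟩
  refine ⟨GrothendieckTopology.Point.ofIsCofiltered pro hp,
    GrothendieckTopology.Point.ofIsCofiltered.fiberMk (U := root) root.str, fun Y g hg y hy => ?_⟩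
  obtain ⟨a, h, rfl⟩ := GrothendieckTopology.Point.ofIsCofiltered.fiberMk_jointly_surjective y
  obtain ⟨b, u₁, u₂, -⟩ := IsCofilteredOrEmpty.cone_objs a root
  have e : GrothendieckTopology.Point.ofIsCofiltered.fiberMk.{u} (p := pro) (U := b) (pro.map u₁ ≫ h ≫ g) =
      GrothendieckTopology.Point.ofIsCofiltered.fiberMk (U := b) (pro.map u₂ ≫ root.str) := by
    rw [GrothendieckTopology.Point.ofIsCofiltered.fiberMk_map_comp,
      GrothendieckTopology.Point.ofIsCofiltered.fiberMk_map_comp]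
    exact (GrothendieckTopology.Point.ofIsCofiltered.fiber_map_fiberMk pro h g).symm.trans hy
  obtain ⟨c, v, hv⟩ := GrothendieckTopology.Point.ofIsCofiltered.exists_of_fiberMk_eq_fiberMk e
  have hc : S₀ c.str := by
    have h2 : pro.map v ≫ pro.map u₂ ≫ root.str = c.str := by
      show v.1 ≫ u₂.1 ≫ root.str = c.str
      rw [u₂.2.str, v.2.str]
    rw [← h2, ← hv]
    simp only [← Category.assoc]
    exact S₀.downward_closed hg _
  refine (stage S₀ hS c.lvl).good c.i ?_
  rw [show S₀.pullback ((stage S₀ hS c.lvl).str c.i) = ⊤ from Sieve.pullback_eq_top_of_mem _ hc]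
  exact J.top_mem _

theorem hasEnoughPoints (hJ : ∀ (U : C) (R : Sieve U), R ∈ J U →
      ∃ (n : ℕ) (V : Fin n → C) (g : ∀ k, V k ⟶ U), (∀ k, R (g k)) ∧ Sieve.ofArrows V g ∈ J U) :
    GrothendieckTopology.HasEnoughPoints.{u} J := by
  classical
  choose Φ x hx using fun q : Σ X : C, {S : Sieve X // S ∉ J X} =>
    exists_point hJ q.2.1 q.2.2
  refine ⟨⟨ObjectProperty.ofObj Φ, inferInstance, ?_⟩⟩
  refine ObjectProperty.IsConservativeFamilyOfPoints.mk' fun X S hS => ?_
  by_contra hne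
  obtain ⟨Y, g, hg, y, hy⟩ := hS ⟨Φ ⟨X, S, hne⟩, ⟨_⟩⟩ (x ⟨X, S, hne⟩)
  exact hx ⟨X, S, hne⟩ Y g hg y hy

end Groth.Agent.ToposFin.Deligne
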