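import Groth.Agent.Lib.ToposFin.JEpi
import Mathlib.CategoryTheory.MorphismProperty.Limits
import Mathlib.CategoryTheory.Sites.LocallyInjective

/-!
# Quasi-compactness and quasi-separation in a sheaf topos
-/

set_option autoImplicit false

universe u w w'

open CategoryTheory CategoryTheory.Limits Opposite ToposFin

namespace Groth.Agent.Topos

variable {C : Type u} [SmallCategory C] {J : GrothendieckTopology C}

/-! ### quasi-compact objects -/

/-- A finite jointly epimorphic refinement yields a finite jointly epimorphic subfamily. -/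
theorem exists_finset_of_refine {X : Sh J} {ι : Type u} {F : ι → Sh J} (π : ∀ i, F i ⟶ X)
    {κ : Type w} [Finite κ] {G : κ → Sh J} (ρ : ∀ k, G k ⟶ X) (h : Epi (Sigma.desc ρ))
    (σ : κ → ι) (a : ∀ k, G k ⟶ F (σ k)) (ha : ∀ k, a k ≫ π (σ k) = ρ k) :
    ∃ s : Finset ι, Epi (Sigma.desc (fun i : s => π i)) := by
  classical
  have := Fintype.ofFinite κ
  refine ⟨Finset.univ.image σ, ?_⟩
  exact jepi_of_refine (fun i : {x // x ∈ Finset.univ.image σ} => π i.1) ρ
    (fun k => ⟨σ k, Finset.mem_image_of_mem σ (Finset.mem_univ k)⟩) a ha h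

theorem qc_of_finite_family {X : Sh J} {κ : Type w} [Finite κ] {F : κ → Sh J} (π : ∀ k, F k ⟶ X)
    (hπ : Epi (Sigma.desc π)) (hF : ∀ k, IsQC (F k)) : IsQC X := by
  intro ι G ρ hρ
  choose s hs using fun k => hF k ι (fun i => pullback (ρ i) (π k))
    (fun i => pullback.snd (ρ i) (π k)) (jepi_pullback ρ hρ (π k))
  have : Finite (Σ k : κ, s k) := inferInstance
  refine exists_finset_of_refine ρ
    (fun p : Σ k : κ, s k => pullback.snd (ρ p.2) (π p.1) ≫ π p.1)
    (jepi_bind π hπ (fun k (i : s k) => pullback.snd (ρ i.1) (π k)) hs)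
    (fun p => p.2.1) (fun p => pullback.fst (ρ p.2) (π p.1)) fun p => pullback.condition

theorem jepi_punit {A B : Sh J} (f : A ⟶ B) [Epi f] :
    Epi (Sigma.desc fun _ : PUnit.{1} => f) :=
  (jepi_iff _).2 ((epi_iff_lift f).1 inferInstance)

theorem epi_of_jepi_single {A B : Sh J} (f : A ⟶ B) {ι : Type w} [Unique ι]
    [HasCoproduct fun _ : ι => A] (h : Epi (Sigma.desc fun _ : ι => f)) : Epi f := by
  refine ⟨fun {Z} a b hab => ?_⟩
  rw [← cancel_epi (Sigma.desc fun _ : ι => f)]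
  exact Limits.Sigma.hom_ext _ _ fun _ => by simpa using hab

theorem qc_of_epi {A B : Sh J} (f : A ⟶ B) [Epi f] (hA : IsQC A) : IsQC B :=
  qc_of_finite_family (fun _ : PUnit.{1} => f) (jepi_punit f) fun _ => hA

theorem qc_iso {A B : Sh J} (e : A ≅ B) (hA : IsQC A) : IsQC B := qc_of_epi e.hom hA

theorem qc_of_isPullback_iso {P A B S : Sh J} {p : P ⟶ A} {q : P ⟶ B} {f : A ⟶ S} {g : B ⟶ S}
    (h : IsPullback p q f g) (hqc : IsQC (pullback f g)) : IsQC P :=
  qc_iso h.isoPullback.symm hqc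

/-! ### quasi-compact morphisms -/

/-- Quasi-compact morphisms as a morphism property. -/
def qcHom : MorphismProperty (Sh J) := fun _ _ f => IsQCHom f

theorem qcHom_iff {X Y : Sh J} (f : X ⟶ Y) : qcHom f ↔ IsQCHom f := Iff.rfl

theorem qsHom_iff {X Y : Sh J} (f : X ⟶ Y) :
    (qcHom (J := J)).diagonal f ↔ IsQSHom f := Iff.rfl

theorem IsQCHom.qc {X Y P Y' : Sh J} {f : X ⟶ Y} (hf : IsQCHom f) {g : Y' ⟶ Y}
    {p : P ⟶ X} {q : P ⟶ Y'} (h : IsPullback p q f g) (hY' : IsQC Y') : IsQC P :=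
  qc_of_isPullback_iso h (hf Y' g hY')

instance : (qcHom (J := J)).IsStableUnderBaseChange where
  of_isPullback {X Y Y' S f g f' g'} h (hg : IsQCHom g) := by
    intro Z k hZ
    exact IsQCHom.qc hg ((IsPullback.of_hasPullback g' k).paste_horiz h) hZ |>
      qc_iso (Iso.refl _)

instance : (qcHom (J := J)).IsStableUnderComposition where
  comp_mem {X Y Z} f g (hf : IsQCHom f) (hg : IsQCHom g) := by
    intro Z' h hZ'
    exact IsQCHom.qc hf (IsPullback.of_hasPullback f (pullback.fst g h)) (hg Z' h hZ') |>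
      qc_iso (((IsPullback.of_hasPullback f (pullback.fst g h)).paste_vert
        (IsPullback.of_hasPullback g h)).isoPullback)

instance : (qcHom (J := J)).ContainsIdentities where
  id_mem X := by
    intro Y g hY
    exact qc_iso (asIso (pullback.snd (𝟙 X) g)).symm hY

instance : (qcHom (J := J)).IsMultiplicative where

instance : (qcHom (J := J)).RespectsIso := inferInstance

theorem qcHom_of_comp_mono {X Y Z : Sh J} (f : X ⟶ Y) (m : Y ⟶ Z) [Mono m]
    (h : IsQCHom (f ≫ m)) : IsQCHom f :=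
  MorphismProperty.HasOfPostcompProperty.of_postcomp (W := qcHom)
    (W' := MorphismProperty.monomorphisms (Sh J)) f m (inferInstanceAs (Mono m)) h

/-- Quasi-compactness of `f` can be checked on a covering of each quasi-compact test object. -/
theorem qcHom_of_cover {X Y : Sh J} (f : X ⟶ Y)
    (h : ∀ (Y' : Sh J) (g : Y' ⟶ Y), IsQC Y' → ∃ (ι : Type u) (F : ι → Sh J) (π : ∀ i, F i ⟶ Y'),
      Epi (Sigma.desc π) ∧ ∀ i, IsQC (pullback f (π i ≫ g))) : IsQCHom f := by
  intro Y' g hY'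
  obtain ⟨ι, F, π, hπ, hF⟩ := h Y' g hY'
  obtain ⟨s, hs⟩ := hY' ι F π hπ
  have sq : ∀ i : s, IsPullback (pullback.snd f (π i.1 ≫ g))
      (pullback.lift (pullback.fst f (π i.1 ≫ g)) (pullback.snd f (π i.1 ≫ g) ≫ π i.1)
        (by rw [pullback.condition, Category.assoc])) (π i.1) (pullback.snd f g) := by
    intro i
    refine IsPullback.of_bot ?_ ?_ (IsPullback.of_hasPullback f g).flip
    · rw [pullback.lift_fst]
      exact (IsPullback.of_hasPullback f (π i.1 ≫ g)).flip
    · rw [pullback.lift_snd]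
  exact qc_of_finite_family _ (jepi_isPullback (fun i : s => π i.1) hs (pullback.snd f g) _ _ sq)
    fun i => hF i.1

theorem qcHom_of_generators {X Y : Sh J} (f : X ⟶ Y) (P : Sh J → Prop)
    (hgen : ∀ Z : Sh J, ∃ (ι : Type u) (F : ι → Sh J) (π : ∀ i, F i ⟶ Z),
      (∀ i, P (F i)) ∧ Epi (Sigma.desc π))
    (h : ∀ (G : Sh J) (s : G ⟶ Y), P G → IsQC (pullback f s)) : IsQCHom f := by
  refine qcHom_of_cover f fun Y' g _ => ?_
  obtain ⟨ι, F, π, hF, hπ⟩ := hgen Y'
  exact ⟨ι, F, π, hπ, fun i => h _ _ (hF i)⟩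

/-- Quasi-compactness is local on the target when there are enough quasi-compact objects. -/
theorem qcHom_of_target_cover (hE : HasQCGenerators J) {X Y : Sh J} (f : X ⟶ Y)
    {ι : Type u} (Yi : ι → Sh J) (g : ∀ i, Yi i ⟶ Y) (hg : Epi (Sigma.desc g))
    {P : ι → Sh J} (p : ∀ i, P i ⟶ X) (q : ∀ i, P i ⟶ Yi i)
    (hP : ∀ i, IsPullback (p i) (q i) f (g i)) (h : ∀ i, IsQCHom (q i)) : IsQCHom f := by
  refine qcHom_of_cover f fun Y' k _ => ?_
  choose κ F π hF hπ using fun i => hE (pullback (g i) k)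
  refine ⟨Σ i, κ i, fun p => F p.1 p.2, fun p => π p.1 p.2 ≫ pullback.snd (g p.1) k,
    jepi_bind (fun i => pullback.snd (g i) k) (jepi_pullback g hg k) π hπ, fun ⟨i, j⟩ => ?_⟩
  have e : (π i j ≫ pullback.snd (g i) k) ≫ k = (π i j ≫ pullback.fst (g i) k) ≫ g i := by
    simp [pullback.condition]
  refine qc_iso (pullback.congrHom rfl e).symm ?_
  exact qc_iso ((IsPullback.of_hasPullback _ _).paste_horiz (hP i)).isoPullback
    (h i (F i j) (π i j ≫ pullback.fst (g i) k) (hF i j))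

/-! ### quasi-separated objects and morphisms -/

theorem isQS_iff {X : Sh J} : IsQS X ↔ ∀ (Y : Sh J) (a : Y ⟶ X), IsQC Y → IsQCHom a :=
  ⟨fun h Y a hY Z b hZ => h Y Z a b hY hZ, fun h Y Z a b hY hZ => h Y a hY Z b hZ⟩

theorem qsHom_of_mono {X Y : Sh J} (f : X ⟶ Y) [Mono f] : IsQSHom f :=
  (qcHom (J := J)).of_isIso (pullback.diagonal f)

end Groth.Agent.Topos
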