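import Groth.Agent.Lib.ToposFin.Main
import Mathlib.CategoryTheory.Limits.Types.Filtered

/-!
# Maps out of quasi-compact objects into filtered colimits; finitely presented objects
-/

set_option autoImplicit false

universe u w w'

open CategoryTheory CategoryTheory.Limits Opposite ToposFin

namespace Groth.Agent.Topos

variable {C : Type u} [SmallCategory C] {J : GrothendieckTopology C}

theorem jepi_of_cancel {ι : Type w} {F : ι → Sh J} [HasCoproduct F] {X : Sh J} (π : ∀ i, F i ⟶ X)
    (h : ∀ (Z : Sh J) (a b : X ⟶ Z), (∀ i, π i ≫ a = π i ≫ b) → a = b) : Epi (Sigma.desc π) :=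
  ⟨fun {Z} a b hab => h Z a b fun i => by simpa using congr_arg (fun m => Sigma.ι F i ≫ m) hab⟩

theorem jepi_cancel {ι : Type w} {F : ι → Sh J} [HasCoproduct F] {X : Sh J} {π : ∀ i, F i ⟶ X}
    (h : Epi (Sigma.desc π)) {Z : Sh J} (a b : X ⟶ Z) (hab : ∀ i, π i ≫ a = π i ≫ b) : a = b := by
  rw [← cancel_epi (Sigma.desc π)]
  exact Limits.Sigma.hom_ext _ _ fun i => by simpa using hab i

/-- Morphisms descend along jointly epimorphic families. -/
theorem exists_desc {ι : Type w} {F : ι → Sh J} [HasCoproduct F] {X : Sh J} {π : ∀ i, F i ⟶ X}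
    (hπ : Epi (Sigma.desc π)) {W : Sh J} (φ : ∀ i, F i ⟶ W)
    (h : ∀ i j, pullback.fst (π i) (π j) ≫ φ i = pullback.snd (π i) (π j) ≫ φ j) :
    ∃ a : X ⟶ W, ∀ i, π i ≫ a = φ i := by
  have hl := (jepi_iff π).1 hπ
  have hW := (isSheaf_iff_isSheaf_of_type J W.obj).1 W.property
  have wd : ∀ (V : C) i (t : (F i).obj.obj (op V)) j (t' : (F j).obj.obj (op V)),
      (π i).hom.app _ t = (π j).hom.app _ t' → (φ i).hom.app _ t = (φ j).hom.app _ t' := by
    intro V i t j t' e
    obtain ⟨z, ⟨rfl, rfl⟩, -⟩ :=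
      exists_section_of_isPullback (IsPullback.of_hasPullback (π i) (π j)) t t' e
    rw [← comp_app_apply, ← comp_app_apply, h]
  choose idx sec hsec using fun (U : C) (s : X.obj.obj (op U)) (V : C) (g : V ⟶ U)
    (hg : liftSieve π s g) => hg
  let x : ∀ (U : C) (s : X.obj.obj (op U)), Presieve.FamilyOfElements W.obj (liftSieve π s).arrows :=
    fun U s V g hg => (φ (idx U s V g hg)).hom.app _ (sec U s V g hg)
  have hx : ∀ (U : C) (s : X.obj.obj (op U)), (x U s).Compatible := by
    intro U s V₁ V₂ V g₁ g₂ f₁ f₂ h₁ h₂ e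
    simp only [x]
    rw [← NatTrans.naturality_apply, ← NatTrans.naturality_apply]
    refine wd _ _ _ _ _ ?_
    rw [NatTrans.naturality_apply, NatTrans.naturality_apply, hsec, hsec, ← Functor.map_comp_apply,
      ← Functor.map_comp_apply, ← op_comp, ← op_comp, e]
  let val : ∀ (U : C), X.obj.obj (op U) → W.obj.obj (op U) := fun U s =>
    (hW _ (hl U s)).amalgamate (x U s) (hx U s)
  have hval : ∀ (U : C) (s : X.obj.obj (op U)) (V : C) (g : V ⟶ U) i (t : (F i).obj.obj (op V)),
      (π i).hom.app _ t = X.obj.map g.op s → W.obj.map g.op (val U s) = (φ i).hom.app _ t := by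
    intro U s V g i t ht
    refine ((hW _ (hl U s)).valid_glue (hx U s) g ⟨i, t, ht⟩).trans ?_
    exact wd _ _ _ _ _ ((hsec U s V g _).trans ht.symm)
  let a : X.obj ⟶ W.obj :=
    { app := fun U => ↾(val U.unop)
      naturality := fun U U' g => by
        ext s
        change val U'.unop (X.obj.map g s) = W.obj.map g (val U.unop s)
        refine (hW.isSeparated _ (hl _ (X.obj.map g s))).ext fun V m ⟨i, t, ht⟩ => ?_
        refine (hval _ _ _ m i t ht).trans ?_
        rw [← Functor.map_comp_apply]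
        refine (hval _ s _ (m ≫ g.unop) i t ?_).symm
        rw [ht, op_comp, Functor.map_comp_apply]
        rfl }
  refine ⟨⟨a⟩, fun i => ObjectProperty.hom_ext _ (NatTrans.ext (funext fun ⟨V⟩ =>
    ConcreteCategory.hom_ext _ _ fun t => ?_))⟩
  change val V ((π i).hom.app (op V) t) = (φ i).hom.app (op V) t
  have := hval V ((π i).hom.app (op V) t) V (𝟙 V) i t (by simp)
  simpa using this

variable {I : Type u} [SmallCategory I] (D : I ⥤ Sh J)

theorem jepi_colimit_ι : Epi (Sigma.desc fun i => colimit.ι D i) :=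
  jepi_of_cancel _ fun _ _ _ h => colimit.hom_ext h

/-- Two maps equalised in a filtered colimit are locally equalised at a finite stage. -/
theorem jepi_equalizer_stage [IsFiltered I] {Y : Sh J} {i : I} (a b : Y ⟶ D.obj i)
    (h : a ≫ colimit.ι D i = b ≫ colimit.ι D i) :
    Epi (Sigma.desc fun p : Σ j, i ⟶ j => equalizer.ι (a ≫ D.map p.2) (b ≫ D.map p.2)) := by
  rw [jepi_iff]
  intro U s
  let E := colimit.cocone (D ⋙ sheafToPresheaf J (Type u))
  let hE := colimit.isColimit (D ⋙ sheafToPresheaf J (Type u))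
  let e := (colimit.isColimit D).coconePointUniqueUpToIso (Sheaf.isColimitSheafifyCocone E hE)
  have h' : a ≫ (Sheaf.sheafifyCocone E).ι.app i = b ≫ (Sheaf.sheafifyCocone E).ι.app i := by
    have he : colimit.ι D i ≫ e.hom = (Sheaf.sheafifyCocone E).ι.app i :=
      IsColimit.comp_coconePointUniqueUpToIso_hom _ _ _
    rw [← he, reassoc_of% h]
  have h'' : (toSheafify J E.pt).app (op U) ((E.ι.app i).app (op U) (a.hom.app (op U) s)) =
      (toSheafify J E.pt).app (op U) ((E.ι.app i).app (op U) (b.hom.app (op U) s)) := by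
    have := congr_arg (fun m : Y ⟶ (Sheaf.sheafifyCocone E).pt => m.hom.app (op U) s) h'
    simp only [comp_app_apply] at this
    rw [Sheaf.sheafifyCocone_ι_app_val] at this
    exact this
  refine J.superset_covering ?_ (Presheaf.equalizerSieve_mem J (toSheafify J E.pt) _ _ h'')
  intro V g hg
  have hg' : (E.ι.app i).app (op V) ((D.obj i).obj.map g.op (a.hom.app (op U) s)) =
      (E.ι.app i).app (op V) ((D.obj i).obj.map g.op (b.hom.app (op U) s)) :=
    (NatTrans.naturality_apply (E.ι.app i) g.op (a.hom.app (op U) s)).trans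
      ((show E.pt.map g.op _ = E.pt.map g.op _ from hg).trans
        (NatTrans.naturality_apply (E.ι.app i) g.op (b.hom.app (op U) s)).symm)
  obtain ⟨j, f, hf⟩ := (Types.FilteredColimit.isColimit_eq_iff'
    (isColimitOfPreserves ((evaluation Cᵒᵖ (Type u)).obj (op V)) hE)
    ((D.obj i).obj.map g.op (a.hom.app (op U) s)) ((D.obj i).obj.map g.op (b.hom.app (op U) s))).1 hg'
  have hfx : (D.map f).hom.app (op V) ((D.obj i).obj.map g.op (a.hom.app (op U) s)) =
      (D.map f).hom.app (op V) ((D.obj i).obj.map g.op (b.hom.app (op U) s)) := hf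
  rw [← NatTrans.naturality_apply a.hom, ← NatTrans.naturality_apply b.hom, ← comp_app_apply,
    ← comp_app_apply] at hfx
  have heq : epsDesc J (Y.obj.map g.op s) ≫ a ≫ D.map f = epsDesc J (Y.obj.map g.op s) ≫ b ≫ D.map f := by
    refine eps_hom_ext J _ _ ?_
    rw [comp_app_apply, comp_app_apply (epsDesc J (Y.obj.map g.op s)), epsDesc_epsSec]
    exact hfx
  refine ⟨⟨j, f⟩, (equalizer.lift _ heq).hom.app (op V) (epsSec J (𝟙 V)), ?_⟩
  rw [← comp_app_apply, equalizer.lift_ι, epsDesc_epsSec]

end Groth.Agent.Topos
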