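import Groth.Agent.Lib.ToposFin.Square

/-!
# Quasi-compactness and coproducts
-/

set_option autoImplicit false

universe u w w'

open CategoryTheory CategoryTheory.Limits Opposite ToposFin

namespace Groth.Agent.Topos

variable {C : Type u} [SmallCategory C] {J : GrothendieckTopology C}

/-- An object whose only sections live over the empty cover is quasi-compact. -/
theorem qc_of_empty {X : Sh J} (h : ∀ (U : C) (_ : X.obj.obj (op U)), (⊥ : Sieve U) ∈ J U) :
    IsQC X := fun ι F π _ => ⟨∅, (jepi_iff _).2 fun U s => J.superset_covering bot_le (h U s)⟩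

/-- A member of a jointly epimorphic family of monomorphisms which is disjoint from the other
members inherits quasi-compactness. -/
theorem qc_of_disjoint {X : Sh J} {ι : Type u} {P : ι → Sh J} (q : ∀ k, P k ⟶ X)
    (hq : Epi (Sigma.desc q)) (hmono : ∀ k, Mono (q k))
    (hdisj : ∀ a b, a ≠ b → ∀ (U : C) (s : (P a).obj.obj (op U)) (t : (P b).obj.obj (op U)),
      (q a).hom.app (op U) s = (q b).hom.app (op U) t → (⊥ : Sieve U) ∈ J U)
    (hX : IsQC X) (i : ι) : IsQC (P i) := by
  classical
  intro κ F π hπ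
  let G : κ ⊕ {j // j ≠ i} → Sh J := Sum.elim F (fun j => P j.1)
  let ρ : ∀ o, G o ⟶ X := fun o => match o with
    | .inl k => π k ≫ q i
    | .inr j => q j.1
  have hρ : Epi (Sigma.desc ρ) := by
    refine (jepi_iff ρ).2 fun U s => J.transitive ((jepi_iff q).1 hq U s) _ ?_
    rintro V g ⟨j, t, ht⟩
    by_cases hj : j = i
    · subst hj
      refine J.superset_covering ?_ ((jepi_iff π).1 hπ V t)
      rintro W m ⟨k, r, hr⟩
      refine ⟨.inl k, r, ?_⟩
      show (π k ≫ q j).hom.app (op W) r = _
      rw [comp_app_apply, hr, NatTrans.naturality_apply, ht, op_comp, Functor.map_comp_apply]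
    · refine J.superset_covering ?_ (J.top_mem V)
      intro W m _
      refine ⟨.inr ⟨j, hj⟩, (P j).obj.map m.op t, ?_⟩
      show (q j).hom.app (op W) _ = _
      rw [NatTrans.naturality_apply, ht, op_comp, Functor.map_comp_apply]
  obtain ⟨s', hs'⟩ := hX _ G ρ hρ
  refine ⟨s'.toLeft, (jepi_iff _).2 fun U t => ?_⟩
  refine J.transitive ((jepi_iff _).1 hs' U ((q i).hom.app (op U) t)) _ ?_
  rintro V g ⟨⟨o, ho⟩, r, hr⟩
  rw [← NatTrans.naturality_apply] at hr
  match o, ho, r, hr with
  | .inl k, ho, r, hr =>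
    have := hmono i
    have e : (π k).hom.app (op V) r = (P i).obj.map g.op t := injective_app_of_mono (q i) _ hr
    refine J.superset_covering ?_ (J.top_mem V)
    intro W m _
    refine ⟨⟨k, Finset.mem_toLeft.2 ho⟩, (F k).obj.map m.op r, ?_⟩
    rw [NatTrans.naturality_apply, e, op_comp, Functor.map_comp_apply]
  | .inr j, _, r, hr => exact J.superset_covering bot_le (hdisj j.1 i j.2 V r _ hr)

/-- Pullbacks of the coprojections form a jointly epimorphic family. -/
theorem jepi_sigma_ι {ι : Type w} (F : ι → Sh J) [HasCoproduct F] :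
    Epi (Sigma.desc (Sigma.ι F)) := by
  have : Sigma.desc (Sigma.ι F) = 𝟙 _ := by ext i; simp
  rw [this]; infer_instance

theorem jepi_cofan {ι : Type w} {F : ι → Sh J} [HasCoproduct F] (c : Cofan F) (hc : IsColimit c) :
    Epi (Sigma.desc c.inj) := by
  refine ⟨fun {Z} a b hab => Cofan.IsColimit.hom_ext hc _ _ fun i => ?_⟩
  simpa using congr_arg (fun m => Sigma.ι F i ≫ m) hab

theorem cofan_disjoint {ι : Type w} {F : ι → Sh J} [HasCoproduct F] (c : Cofan F) (hc : IsColimit c)
    {a b : ι} (hab : a ≠ b) {U : C} (s : (F a).obj.obj (op U)) (t : (F b).obj.obj (op U))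
    (e : (c.inj a).hom.app (op U) s = (c.inj b).hom.app (op U) t) : (⊥ : Sieve U) ∈ J U := by
  refine sigma_ι_disjoint F hab s t ?_
  have hd := congr_arg (fun z => (Cofan.IsColimit.desc hc (Sigma.ι F)).hom.app (op U) z) e
  simp only [← comp_app_apply, Cofan.IsColimit.fac] at hd
  exact hd

theorem mono_cofan_inj {ι : Type u} {F : ι → Sh J} (c : Cofan F) (hc : IsColimit c) (i : ι) :
    Mono (c.inj i) :=
  MonoCoprod.mono_inj F c hc i

/-- A coprojection is quasi-compact. -/
theorem qcHom_cofan_inj {ι : Type u} {F : ι → Sh J} (c : Cofan F) (hc : IsColimit c) (i : ι) :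
    IsQCHom (c.inj i) := by
  intro Y' g hY'
  have hm : ∀ k, Mono (c.inj k) := mono_cofan_inj c hc
  refine qc_of_disjoint (fun k => pullback.snd (c.inj k) g)
    (jepi_pullback c.inj (jepi_cofan c hc) g) (fun k => inferInstance) ?_ hY' i
  intro a b hab U s t e
  refine cofan_disjoint c hc hab ((pullback.fst (c.inj a) g).hom.app _ s)
    ((pullback.fst (c.inj b) g).hom.app _ t) ?_
  rw [← comp_app_apply, ← comp_app_apply, pullback.condition, pullback.condition, comp_app_apply,
    comp_app_apply, e]

/-- A finite coproduct of quasi-compact objects; converse direction. -/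
theorem qc_of_qc_sigma {ι : Type u} (F : ι → Sh J) (h : IsQC (∐ F)) (i : ι) : IsQC (F i) :=
  qc_of_disjoint (Sigma.ι F) (jepi_sigma_ι F) (mono_sigma_ι F)
    (fun _ _ hab _ s t e => sigma_ι_disjoint F hab s t e) h i

end Groth.Agent.Topos
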