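import Groth.Agent.Lib.ToposFin.Square
import Mathlib.CategoryTheory.Limits.Preserves.Shapes.Pullbacks

/-!
# Sheaves associated with representables
-/

set_option autoImplicit false

universe u w w'

open CategoryTheory CategoryTheory.Limits Opposite ToposFin

namespace Groth.Agent.Topos

variable {C : Type u} [SmallCategory C] (J : GrothendieckTopology C)

/-- The functor `X ↦ eps J X`. -/
noncomputable abbrev epsFunctor : C ⥤ Sh J := yoneda ⋙ presheafToSheaf J (Type u)

/-- The canonical map from the representable presheaf. -/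
noncomputable def epsUnit (X : C) : yoneda.obj X ⟶ (eps J X).obj :=
  (sheafificationAdjunction J (Type u)).unit.app (yoneda.obj X)

theorem epsUnit_eq_toSheafify (X : C) : epsUnit J X = toSheafify J (yoneda.obj X) := rfl

/-- The tautological section of `eps J X` over `X`, restricted along `h`. -/
noncomputable def epsSec {X U : C} (h : U ⟶ X) : (eps J X).obj.obj (op U) :=
  (epsUnit J X).app (op U) h

theorem epsSec_map {X U V : C} (h : U ⟶ X) (g : V ⟶ U) :
    (eps J X).obj.map g.op (epsSec J h) = epsSec J (g ≫ h) :=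
  (NatTrans.naturality_apply (epsUnit J X) g.op h).symm

theorem eps_map_epsSec {V X U : C} (f : V ⟶ X) (h : U ⟶ V) :
    ((presheafToSheaf J (Type u)).map (yoneda.map f)).hom.app (op U) (epsSec J h) =
      epsSec J (h ≫ f) := by
  have := congr_arg (fun m => m.app (op U) h)
    ((sheafificationAdjunction J (Type u)).unit.naturality (yoneda.map f))
  exact this.symm

theorem imageSieve_epsSec {X U : C} (s : (eps J X).obj.obj (op U)) :
    Presheaf.imageSieve (epsUnit J X) s ∈ J U := by
  have : Presheaf.IsLocallySurjective J (epsUnit J X) := by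
    rw [epsUnit_eq_toSheafify]; infer_instance
  exact Presheaf.imageSieve_mem J (U := op U) (epsUnit J X) s

theorem equalizerSieve_epsSec {X U : C} (a b : U ⟶ X) (h : epsSec J a = epsSec J b) :
    Presheaf.equalizerSieve (F := yoneda.obj X) (X := op U) a b ∈ J U := by
  have : Presheaf.IsLocallyInjective J (epsUnit J X) := by
    rw [epsUnit_eq_toSheafify]; infer_instance
  exact Presheaf.equalizerSieve_mem J (epsUnit J X) (X := op U) a b h

/-- A family between representables is jointly epimorphic iff it is covering. -/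
theorem jepi_eps_map_iff {X : C} {ι : Type w} {V : ι → C} (g : ∀ k, V k ⟶ X)
    [HasCoproduct fun k => eps J (V k)] :
    Epi (Sigma.desc fun k => (presheafToSheaf J (Type u)).map (yoneda.map (g k))) ↔
      Sieve.ofArrows V g ∈ J X := by
  rw [jepi_iff]
  constructor
  · intro h
    refine J.transitive (h X (epsSec J (𝟙 X))) _ ?_
    rintro W m ⟨k, t, ht⟩
    refine J.transitive (imageSieve_epsSec J t) _ ?_
    rintro W' m' ⟨r, hr⟩
    have e : epsSec J (r ≫ g k) = epsSec J (m' ≫ m) := by
      have h1 : epsSec J r = (eps J (V k)).obj.map m'.op t := hr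
      rw [← eps_map_epsSec, h1, NatTrans.naturality_apply, ht, epsSec_map, epsSec_map,
        Category.comp_id]
    refine J.superset_covering ?_ (equalizerSieve_epsSec J _ _ e)
    intro W'' m'' hm''
    rw [← Sieve.pullback_comp, Sieve.pullback_apply, Sieve.mem_ofArrows_iff]
    replace hm'' : m'' ≫ r ≫ g k = m'' ≫ m' ≫ m := hm''
    exact ⟨k, m'' ≫ r, by simp [hm'']⟩
  · intro h U s
    refine J.transitive (imageSieve_epsSec J s) _ ?_
    rintro W m ⟨r, hr⟩
    replace hr : epsSec J r = (eps J X).obj.map m.op s := hr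
    refine J.superset_covering ?_ (J.pullback_stable r h)
    intro W' m' hm'
    rw [Sieve.pullback_apply, Sieve.mem_ofArrows_iff] at hm'
    obtain ⟨k, a, ha⟩ := hm'
    refine ⟨k, epsSec J a, ?_⟩
    rw [eps_map_epsSec, ← ha, ← epsSec_map, hr, op_comp, Functor.map_comp_apply]

/-- The morphism out of `eps J U` given by a section. -/
noncomputable def epsDesc {X : Sh J} {U : C} (s : X.obj.obj (op U)) : eps J U ⟶ X :=
  ((sheafificationAdjunction J (Type u)).homEquiv _ X).symm (yonedaEquiv.symm s)

theorem epsDesc_epsSec {X : Sh J} {U : C} (s : X.obj.obj (op U)) :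
    (epsDesc J s).hom.app (op U) (epsSec J (𝟙 U)) = s := by
  have h : (sheafificationAdjunction J (Type u)).homEquiv _ X (epsDesc J s) = yonedaEquiv.symm s :=
    Equiv.apply_symm_apply _ _
  rw [Adjunction.homEquiv_unit] at h
  have h2 := congr_arg yonedaEquiv h
  rw [Equiv.apply_symm_apply, yonedaEquiv_apply] at h2
  exact h2

/-- Every sheaf is covered by the sheaves associated to representables. -/
theorem jepi_epsDesc (X : Sh J) :
    Epi (Sigma.desc fun p : Σ U : C, X.obj.obj (op U) => epsDesc J p.2) := by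
  refine (jepi_iff _).2 fun U s => J.superset_covering ?_ (J.top_mem U)
  intro V g _
  exact ⟨⟨V, X.obj.map g.op s⟩, epsSec J (𝟙 V), epsDesc_epsSec J _⟩

/-- Quasi-compactness of the site object and of the associated sheaf agree. -/
theorem isQCSite_iff_isQC_eps (X : C) : IsQCSite J X ↔ IsQC (eps J X) := by
  constructor
  · intro hX ι F π hπ
    have hS := (jepi_iff π).1 hπ X (epsSec J (𝟙 X))
    obtain ⟨n, V, g, hg, hcov⟩ := hX _ hS
    choose i t ht using hg
    refine exists_finset_of_refine π (fun k => (presheafToSheaf J (Type u)).map (yoneda.map (g k)))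
      ((jepi_eps_map_iff J g).2 hcov) i (fun k => epsDesc J (t k)) fun k => ?_
    apply ((sheafificationAdjunction J (Type u)).homEquiv _ _).injective
    apply yonedaEquiv.injective
    rw [Adjunction.homEquiv_unit, Adjunction.homEquiv_unit, yonedaEquiv_apply, yonedaEquiv_apply]
    show (epsDesc J (t k) ≫ π (i k)).hom.app (op (V k)) (epsSec J (𝟙 _)) =
      ((presheafToSheaf J (Type u)).map (yoneda.map (g k))).hom.app (op (V k)) (epsSec J (𝟙 _))
    rw [comp_app_apply, epsDesc_epsSec, ht, eps_map_epsSec, epsSec_map, Category.comp_id,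
      Category.id_comp]
  · intro hX S hS
    let V : (Σ Y : C, {g : Y ⟶ X // S g}) → C := fun p => p.1
    let g : ∀ p, V p ⟶ X := fun p => p.2.1
    have hcov : Sieve.ofArrows V g ∈ J X := J.superset_covering
      (fun Y m hm => (Sieve.mem_ofArrows_iff _ _ _).2 ⟨⟨Y, m, hm⟩, 𝟙 Y, by simp [g]⟩) hS
    obtain ⟨s, hs⟩ := hX _ _ _ ((jepi_eps_map_iff J g).2 hcov)
    refine ⟨Fintype.card s, fun k => V ((Fintype.equivFin s).symm k).1,
      fun k => g ((Fintype.equivFin s).symm k).1, fun k => ((Fintype.equivFin s).symm k).1.2.2, ?_⟩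
    refine J.superset_covering ?_ ((jepi_eps_map_iff J (fun i : s => g i.1)).1 hs)
    intro Y m hm
    obtain ⟨i, a, ha⟩ := (Sieve.mem_ofArrows_iff _ _ _).1 hm
    obtain ⟨k, rfl⟩ := (Fintype.equivFin s).symm.surjective i
    exact (Sieve.mem_ofArrows_iff _ _ _).2 ⟨k, a, ha⟩

theorem hasQCGenerators (hC : ∀ X : C, IsQCSite J X) : HasQCGenerators J := fun X =>
  ⟨Σ U : C, X.obj.obj (op U), fun p => eps J p.1, fun p => epsDesc J p.2,
    fun p => (isQCSite_iff_isQC_eps J p.1).1 (hC _), jepi_epsDesc J X⟩

end Groth.Agent.Topos
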