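import Groth.Prelude.Def_SGA4c
import Mathlib.CategoryTheory.Sites.Subsheaf
import Mathlib.CategoryTheory.Sites.EpiMono
import Mathlib.CategoryTheory.Sites.LocallySurjective
import Mathlib.CategoryTheory.Limits.Types.Pullbacks

/-!
# Jointly epimorphic families of sheaves of sets

A family is jointly epimorphic iff every section lifts locally; consequences.
-/

set_option autoImplicit false

universe u w w'

open CategoryTheory CategoryTheory.Limits Opposite

namespace Groth.Agent.Topos

variable {C : Type u} [SmallCategory C] {J : GrothendieckTopology C}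

/-- The sieve of arrows along which a section lifts to some member of the family. -/
def liftSieve {ι : Type w} {F : ι → Sheaf J (Type u)} {X : Sheaf J (Type u)} (π : ∀ i, F i ⟶ X)
    {U : C} (s : X.obj.obj (op U)) : Sieve U where
  arrows V g := ∃ (i : ι) (t : (F i).obj.obj (op V)), (π i).hom.app (op V) t = X.obj.map g.op s
  downward_closed := by
    rintro V W g ⟨i, t, ht⟩ h
    refine ⟨i, (F i).obj.map h.op t, ?_⟩
    rw [NatTrans.naturality_apply, ht, op_comp, Functor.map_comp_apply]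

/-- The subpresheaf of sections in the image of some member of the family. -/
def unionRange {ι : Type w} {F : ι → Sheaf J (Type u)} {X : Sheaf J (Type u)} (π : ∀ i, F i ⟶ X) :
    Subfunctor X.obj where
  obj U := {s | ∃ (i : ι) (t : (F i).obj.obj U), (π i).hom.app U t = s}
  map := by
    rintro U V g s ⟨i, t, rfl⟩
    exact ⟨i, (F i).obj.map g t, NatTrans.naturality_apply _ _ _⟩

variable {ι : Type w} {F : ι → Sheaf J (Type u)} {X : Sheaf J (Type u)} (π : ∀ i, F i ⟶ X)

/-- Two maps which agree on a locally lifting family are equal. -/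
theorem hom_ext_of_liftSieve (h : ∀ (U : C) (s : X.obj.obj (op U)), liftSieve π s ∈ J U)
    {Z : Sheaf J (Type u)} (a b : X ⟶ Z) (hab : ∀ i, π i ≫ a = π i ≫ b) : a = b := by
  refine ObjectProperty.hom_ext _ (NatTrans.ext (funext fun ⟨U⟩ => ConcreteCategory.hom_ext _ _ fun s => ?_))
  refine (((isSheaf_iff_isSheaf_of_type J Z.obj).1 Z.property) _ (h U s)).isSeparatedFor.ext
    fun V g hg => ?_
  obtain ⟨i, t, ht⟩ := hg
  rw [← NatTrans.naturality_apply, ← NatTrans.naturality_apply, ← ht]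
  exact congr_arg (fun m : F i ⟶ Z => m.hom.app (op V) t) (hab i)

theorem jepi_iff [HasCoproduct F] :
    Epi (Sigma.desc π) ↔ ∀ (U : C) (s : X.obj.obj (op U)), liftSieve π s ∈ J U := by
  constructor
  · intro h U s
    let T := (unionRange π).sheafify J
    have hX := (isSheaf_iff_isSheaf_of_type J X.obj).1 X.property
    let T' : Sheaf J (Type u) :=
      ⟨T.toFunctor, (isSheaf_iff_isSheaf_of_type J _).2 (Subfunctor.sheafify_isSheaf _ hX)⟩
    let j : T' ⟶ X := ⟨T.ι⟩
    let π' : ∀ i, F i ⟶ T' := fun i => ⟨Subfunctor.lift (π i).hom (by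
      rintro V s ⟨t, rfl⟩
      exact Subfunctor.le_sheafify J _ V ⟨i, t, rfl⟩)⟩
    have hfac : Sigma.desc π' ≫ j = Sigma.desc π := by
      refine Limits.Sigma.hom_ext _ _ fun i => ?_
      rw [Sigma.ι_desc_assoc, Sigma.ι_desc]
      rfl
    have : Epi j := epi_of_epi_fac hfac
    have : Mono j.hom := inferInstanceAs (Mono T.ι)
    have : Mono j := (sheafToPresheaf J (Type u)).mono_of_mono_map this
    have : IsIso j := isIso_of_mono_of_epi j
    obtain ⟨t, ht⟩ : ∃ t : T'.obj.obj (op U), j.hom.app (op U) t = s := by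
      refine ⟨(inv j).hom.app (op U) s, ?_⟩
      exact congr_arg (fun m : X ⟶ X => m.hom.app (op U) s) (IsIso.inv_hom_id j)
    have ht' : (unionRange π).sieveOfSection s ∈ J U := ht ▸ t.2
    exact J.superset_covering (fun V g hg => hg) ht'
  · intro h
    refine ⟨fun {Z} a b hab => hom_ext_of_liftSieve π h a b fun i => ?_⟩
    simpa using congr_arg (fun m => Sigma.ι F i ≫ m) hab

theorem epi_iff_lift {A B : Sheaf J (Type u)} (f : A ⟶ B) :
    Epi f ↔ ∀ (U : C) (s : B.obj.obj (op U)), liftSieve (fun _ : PUnit.{1} => f) s ∈ J U := by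
  rw [← jepi_iff]
  have h : Sigma.ι (fun _ : PUnit.{1} => A) PUnit.unit ≫ Sigma.desc (fun _ : PUnit.{1} => f) = f :=
    Sigma.ι_desc _ _
  constructor
  · intro _
    exact epi_of_epi_fac h
  · intro _
    refine ⟨fun {Z} a b hab => ?_⟩
    rw [← cancel_epi (Sigma.desc fun _ : PUnit.{1} => f)]
    refine Limits.Sigma.hom_ext _ _ fun i => ?_
    simpa using hab

/-- If a family refines another one, joint epimorphy is inherited. -/
theorem jepi_of_refine [HasCoproduct F] {ι' : Type w'} {G : ι' → Sheaf J (Type u)} [HasCoproduct G]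
    (ρ : ∀ k, G k ⟶ X) (σ : ι' → ι) (a : ∀ k, G k ⟶ F (σ k)) (hρ : ∀ k, a k ≫ π (σ k) = ρ k)
    (h : Epi (Sigma.desc ρ)) : Epi (Sigma.desc π) := by
  have : Sigma.desc (fun k => a k ≫ Sigma.ι F (σ k)) ≫ Sigma.desc π = Sigma.desc ρ := by
    refine Limits.Sigma.hom_ext _ _ fun k => ?_
    simp [hρ]
  exact epi_of_epi_fac this

/-- A family whose `i`-th member is covered by a jointly epimorphic family gives a jointly
epimorphic family. -/
theorem jepi_bind [HasCoproduct F] (h : Epi (Sigma.desc π)) {κ : ι → Type w'}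
    {G : (i : ι) → κ i → Sheaf J (Type u)} [∀ i, HasCoproduct (G i)]
    [HasCoproduct fun p : Σ i, κ i => G p.1 p.2]
    (ρ : ∀ i k, G i k ⟶ F i) (hρ : ∀ i, Epi (Sigma.desc (ρ i))) :
    Epi (Sigma.desc fun p : Σ i, κ i => ρ p.1 p.2 ≫ π p.1) := by
  refine ⟨fun {Z} a b hab => ?_⟩
  rw [← cancel_epi (Sigma.desc π)]
  refine Limits.Sigma.hom_ext _ _ fun i => ?_
  rw [Sigma.ι_desc_assoc, Sigma.ι_desc_assoc, ← cancel_epi (Sigma.desc (ρ i))]
  refine Limits.Sigma.hom_ext _ _ fun k => ?_
  simpa using congr_arg (fun m => Sigma.ι (fun p : Σ i, κ i => G p.1 p.2) ⟨i, k⟩ ≫ m) hab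

/-- Sections of a cartesian square. -/
theorem exists_section_of_isPullback {P A B S : Sheaf J (Type u)} {p : P ⟶ A} {q : P ⟶ B}
    {f : A ⟶ S} {g : B ⟶ S} (h : IsPullback p q f g) {U : Cᵒᵖ} (a : A.obj.obj U) (b : B.obj.obj U)
    (e : f.hom.app U a = g.hom.app U b) :
    ∃! x : P.obj.obj U, p.hom.app U x = a ∧ q.hom.app U x = b := by
  have h' := h.map (sheafToPresheaf J (Type u) ⋙ (evaluation Cᵒᵖ (Type u)).obj U)
  obtain ⟨x, hx⟩ := Types.exists_of_isPullback h' a b e
  exact ⟨x, hx, fun y hy => Types.ext_of_isPullback h' (hy.1.trans hx.1.symm) (hy.2.trans hx.2.symm)⟩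

/-- Jointly epimorphic families are stable under base change. -/
theorem jepi_isPullback [HasCoproduct F] (h : Epi (Sigma.desc π)) {Y : Sheaf J (Type u)} (g : Y ⟶ X)
    {P : ι → Sheaf J (Type u)} [HasCoproduct P] (p : ∀ i, P i ⟶ F i) (q : ∀ i, P i ⟶ Y)
    (hP : ∀ i, IsPullback (p i) (q i) (π i) g) : Epi (Sigma.desc q) := by
  rw [jepi_iff] at h ⊢
  intro U s
  refine J.superset_covering ?_ (h U (g.hom.app (op U) s))
  rintro V m ⟨i, t, ht⟩
  obtain ⟨x, hx, -⟩ := exists_section_of_isPullback (hP i) t (Y.obj.map m.op s)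
    (ht.trans (NatTrans.naturality_apply g.hom m.op s).symm)
  exact ⟨i, x, hx.2⟩

theorem jepi_pullback [HasCoproduct F] (h : Epi (Sigma.desc π)) {Y : Sheaf J (Type u)} (g : Y ⟶ X)
    [HasCoproduct fun i => pullback (π i) g] :
    Epi (Sigma.desc fun i => pullback.snd (π i) g) :=
  jepi_isPullback π h g _ _ fun i => IsPullback.of_hasPullback _ _

theorem epi_of_isPullback {P A B S : Sheaf J (Type u)} {p : P ⟶ A} {q : P ⟶ B}
    {f : A ⟶ S} {g : B ⟶ S} (h : IsPullback p q f g) [Epi f] : Epi q := by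
  have hf := (epi_iff_lift f).1 inferInstance
  refine (epi_iff_lift q).2 fun U s => J.superset_covering ?_ (hf U (g.hom.app (op U) s))
  rintro V m ⟨_, t, ht⟩
  obtain ⟨x, hx, -⟩ := exists_section_of_isPullback h t (B.obj.map m.op s)
    (ht.trans (NatTrans.naturality_apply g.hom m.op s).symm)
  exact ⟨PUnit.unit, x, hx.2⟩

end Groth.Agent.Topos
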