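import Groth.Agent.Lib.ToposFin.Coprod
import Groth.Agent.Lib.ToposFin.Eps

/-!
# Quasi-separation in a sheaf topos
-/

set_option autoImplicit false

universe u w w'

open CategoryTheory CategoryTheory.Limits Opposite ToposFin

namespace Groth.Agent.Topos

variable {C : Type u} [SmallCategory C] {J : GrothendieckTopology C}

theorem qsHom_comp {X Y Z : Sh J} {f : X ⟶ Y} {g : Y ⟶ Z} (hf : IsQSHom f) (hg : IsQSHom g) :
    IsQSHom (f ≫ g) :=
  MorphismProperty.comp_mem (qcHom (J := J)).diagonal f g hf hg

theorem qsHom_of_comp {X Y Z : Sh J} (f : X ⟶ Y) (g : Y ⟶ Z) (h : IsQSHom (f ≫ g)) : IsQSHom f := by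
  let m := pullback.map f f (f ≫ g) (f ≫ g) (𝟙 _) (𝟙 _) g (by simp) (by simp)
  have hm : Mono m := by
    refine ⟨fun {W} u v huv => Limits.pullback.hom_ext ?_ ?_⟩
    · simpa [m, pullback.lift_fst, pullback.lift_snd, pullback.lift_fst_assoc, pullback.lift_snd_assoc] using congr_arg (fun z => z ≫ pullback.fst (f ≫ g) (f ≫ g)) huv
    · simpa [m, pullback.lift_fst, pullback.lift_snd, pullback.lift_fst_assoc, pullback.lift_snd_assoc] using congr_arg (fun z => z ≫ pullback.snd (f ≫ g) (f ≫ g)) huv
  refine qcHom_of_comp_mono _ m ?_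
  have : pullback.diagonal f ≫ m = pullback.diagonal (f ≫ g) := by
    refine Limits.pullback.hom_ext ?_ ?_ <;> simp [m, pullback.lift_fst, pullback.lift_snd, pullback.lift_fst_assoc, pullback.lift_snd_assoc]
  rw [this]
  exact h

theorem qcHom_of_comp {X Y Z : Sh J} (f : X ⟶ Y) (g : Y ⟶ Z) (hg : IsQSHom g)
    (h : IsQCHom (f ≫ g)) : IsQCHom f := by
  have : (qcHom (J := J)).HasOfPostcompProperty (qcHom (J := J)).diagonal :=
    MorphismProperty.hasOfPostcompProperty_iff_le_diagonal.2 le_rfl
  exact this.of_postcomp f g hg h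

theorem qc_sigma_finite {ι : Type w} [Finite ι] (F : ι → Sh J) (h : ∀ i, IsQC (F i)) : IsQC (∐ F) :=
  qc_of_finite_family (Sigma.ι F) (jepi_sigma_ι F) h

/-- Quasi-compactness can be checked on a finite covering of the source. -/
theorem qcHom_of_finite_source {Y Z : Sh J} (g : Y ⟶ Z) {κ : Type w} [Finite κ] {X : κ → Sh J}
    (f : ∀ k, X k ⟶ Y) (hf : Epi (Sigma.desc f)) (h : ∀ k, IsQCHom (f k ≫ g)) : IsQCHom g := by
  intro Z' a hZ'
  refine qc_of_finite_family (fun k => pullback.snd (f k) (pullback.fst g a))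
    (jepi_pullback f hf (pullback.fst g a)) fun k => ?_
  exact IsQCHom.qc (h k) ((IsPullback.of_hasPullback (f k) (pullback.fst g a)).paste_vert
    (IsPullback.of_hasPullback g a)) hZ'

/-- Quasi-compactness is local on the target for coverings by quasi-compact morphisms. -/
theorem qcHom_of_qc_target_cover {X Y : Sh J} (f : X ⟶ Y)
    {ι : Type u} {Yi : ι → Sh J} (g : ∀ i, Yi i ⟶ Y) (hg : Epi (Sigma.desc g))
    (hgqc : ∀ i, IsQCHom (g i))
    {P : ι → Sh J} (p : ∀ i, P i ⟶ X) (q : ∀ i, P i ⟶ Yi i)
    (hP : ∀ i, IsPullback (p i) (q i) f (g i)) (h : ∀ i, IsQCHom (q i)) : IsQCHom f := by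
  refine qcHom_of_cover f fun Z k hZ => ⟨ι, _, fun i => pullback.snd (g i) k,
    jepi_pullback g hg k, fun i => ?_⟩
  refine qc_iso (pullback.congrHom rfl pullback.condition) ?_
  exact qc_iso ((IsPullback.of_hasPullback _ _).paste_horiz (hP i)).isoPullback
    (h i _ (pullback.fst (g i) k) (hgqc i Z k hZ))

theorem qs_of_qsHom {X Y : Sh J} (f : X ⟶ Y) (hf : IsQSHom f) (hY : IsQS Y) : IsQS X := by
  intro A B a b hA hB
  have sq : IsPullback (pullback.fst a b ≫ a)
      (pullback.lift (pullback.fst a b) (pullback.snd a b) (by rw [pullback.condition_assoc]) :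
        pullback a b ⟶ pullback (a ≫ f) (b ≫ f))
      (pullback.diagonal f)
      (pullback.map (a ≫ f) (b ≫ f) f f a b (𝟙 _) (by simp) (by simp)) := by
    refine isPullback_of_sections ?_ (fun U x y _ hq => ?_) (fun U z c e => ?_)
    · refine Limits.pullback.hom_ext ?_ ?_ <;>
        simp [pullback.lift_fst, pullback.lift_snd, pullback.lift_fst_assoc, pullback.lift_snd_assoc, pullback.condition, pullback.condition_assoc]
    · refine pullback_ext ?_ ?_
      · simpa only [← comp_app_apply, pullback.lift_fst] using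
          congr_arg (fun z => (pullback.fst (a ≫ f) (b ≫ f)).hom.app U z) hq
      · simpa only [← comp_app_apply, pullback.lift_snd] using
          congr_arg (fun z => (pullback.snd (a ≫ f) (b ≫ f)).hom.app U z) hq
    · have e1 := congr_arg (fun z => (pullback.fst f f).hom.app U z) e
      have e2 := congr_arg (fun z => (pullback.snd f f).hom.app U z) e
      simp only [← comp_app_apply, pullback.diagonal_fst, pullback.diagonal_snd, pullback.lift_fst,
        pullback.lift_snd] at e1 e2
      change z = _ at e1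
      change z = _ at e2
      obtain ⟨x, ⟨hx1, hx2⟩, -⟩ := exists_section_of_isPullback (IsPullback.of_hasPullback a b)
        ((pullback.fst (a ≫ f) (b ≫ f)).hom.app U c) ((pullback.snd (a ≫ f) (b ≫ f)).hom.app U c)
        (e1.symm.trans e2)
      refine ⟨x, ?_, pullback_ext ?_ ?_⟩
      · rw [comp_app_apply, hx1, e1, comp_app_apply]
      · rw [← comp_app_apply, pullback.lift_fst, hx1]
      · rw [← comp_app_apply, pullback.lift_snd, hx2]
  exact IsQCHom.qc hf sq (hY A B (a ≫ f) (b ≫ f) hA hB)

theorem qs_of_mono {X Y : Sh J} (f : X ⟶ Y) [Mono f] (hY : IsQS Y) : IsQS X :=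
  qs_of_qsHom f (qsHom_of_mono f) hY

/-- An object covered by quasi-separated objects via quasi-compact maps is quasi-separated. -/
theorem qs_of_cover {Y : Sh J} {ι : Type u} {Yi : ι → Sh J} (g : ∀ i, Yi i ⟶ Y)
    (hg : Epi (Sigma.desc g)) (hqs : ∀ i, IsQS (Yi i)) (hqc : ∀ i, IsQCHom (g i)) : IsQS Y := by
  intro A B a b hA hB
  obtain ⟨s, hs⟩ := hA _ _ _ (jepi_pullback g hg a)
  refine qc_of_finite_family
    (fun i : s => pullback.snd (pullback.snd (g i.1) a) (pullback.fst a b))
    (jepi_pullback (fun i : s => pullback.snd (g i.1) a) hs (pullback.fst a b)) fun i => ?_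
  have hB' : IsQC (pullback (g i.1) b) := hqc i.1 B b hB
  have hA' : IsQC (pullback (g i.1) a) := hqc i.1 A a hA
  have h1 := hqs i.1 (pullback (g i.1) a) (pullback (g i.1) b) (pullback.fst _ _) (pullback.fst _ _)
    hA' hB'
  have sq1 : IsPullback (pullback.fst (pullback.fst (g i.1) a) (pullback.fst (g i.1) b))
      (pullback.snd (pullback.fst (g i.1) a) (pullback.fst (g i.1) b) ≫ pullback.snd (g i.1) b)
      (pullback.fst (g i.1) a ≫ g i.1) b :=
    (IsPullback.of_hasPullback (pullback.fst (g i.1) a) (pullback.fst (g i.1) b)).paste_vert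
      (IsPullback.of_hasPullback (g i.1) b)
  have sq2 : IsPullback (pullback.fst (pullback.snd (g i.1) a) (pullback.fst a b))
      (pullback.snd (pullback.snd (g i.1) a) (pullback.fst a b) ≫ pullback.snd a b)
      (pullback.fst (g i.1) a ≫ g i.1) b := by
    rw [pullback.condition]
    exact (IsPullback.of_hasPullback _ _).paste_vert (IsPullback.of_hasPullback a b)
  exact qc_iso (sq1.isoIsPullback _ _ sq2) h1

theorem qs_sigma {ι : Type u} (F : ι → Sh J) (h : ∀ i, IsQS (F i)) : IsQS (∐ F) :=
  qs_of_cover (Sigma.ι F) (jepi_sigma_ι F) h fun i => qcHom_cofan_inj _ (coproductIsCoproduct F) i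

/-- Quasi-separatedness is local on the target. -/
theorem qsHom_of_target_cover (hE : HasQCGenerators J) {X Y : Sh J} (f : X ⟶ Y)
    {ι : Type u} (Yi : ι → Sh J) (g : ∀ i, Yi i ⟶ Y) (hg : Epi (Sigma.desc g))
    (h : ∀ i, IsQSHom (pullback.snd f (g i))) : IsQSHom f := by
  have sq : ∀ i, IsPullback (pullback.fst (pullback.snd f (g i)) (pullback.snd f (g i)) ≫
      pullback.snd f (g i))
      (pullback.map _ _ f f (pullback.fst f (g i)) (pullback.fst f (g i)) (g i)
        pullback.condition.symm pullback.condition.symm)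
      (g i) (pullback.fst f f ≫ f) := by
    intro i
    refine isPullback_of_sections ?_ (fun U x y hp hq => ?_) (fun U c d e => ?_)
    · simp [pullback.lift_fst, pullback.lift_snd, pullback.lift_fst_assoc, pullback.lift_snd_assoc, pullback.condition, pullback.condition_assoc]
    · have h1 := congr_arg (fun z => (pullback.fst f f).hom.app U z) hq
      have h2 := congr_arg (fun z => (pullback.snd f f).hom.app U z) hq
      simp only [← comp_app_apply, pullback.lift_fst, pullback.lift_snd] at h1 h2
      simp only [comp_app_apply] at h1 h2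
      simp only [comp_app_apply] at hp
      refine pullback_ext (pullback_ext h1 hp) (pullback_ext h2 ?_)
      have hc := fun w => app_congr (pullback.condition
        (f := pullback.snd f (g i)) (g := pullback.snd f (g i))) U w
      simp only [comp_app_apply] at hc
      rw [← hc x, ← hc y]; exact hp
    · simp only [comp_app_apply] at e
      have hd := app_congr (pullback.condition (f := f) (g := f)) U d
      simp only [comp_app_apply] at hd
      obtain ⟨x1, ⟨hx11, hx12⟩, -⟩ := exists_section_of_isPullback (IsPullback.of_hasPullback f (g i))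
        ((pullback.fst f f).hom.app U d) c e.symm
      obtain ⟨x2, ⟨hx21, hx22⟩, -⟩ := exists_section_of_isPullback (IsPullback.of_hasPullback f (g i))
        ((pullback.snd f f).hom.app U d) c (hd.symm.trans e.symm)
      obtain ⟨x, ⟨hxa, hxb⟩, -⟩ := exists_section_of_isPullback
        (IsPullback.of_hasPullback (pullback.snd f (g i)) (pullback.snd f (g i))) x1 x2
        (hx12.trans hx22.symm)
      refine ⟨x, by rw [comp_app_apply, hxa, hx12], pullback_ext ?_ ?_⟩
      · rw [← comp_app_apply, pullback.lift_fst, comp_app_apply, hxa, hx11]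
      · rw [← comp_app_apply, pullback.lift_snd, comp_app_apply, hxb, hx21]
  exact qcHom_of_target_cover hE _ _ _ (jepi_isPullback g hg (pullback.fst f f ≫ f) _ _ sq) _ _
    (fun i => isPullback_diagonal (IsPullback.of_hasPullback f (g i))) h

/-- Quasi-separatedness is local on the source for quasi-compact coverings. -/
theorem qsHom_of_source_cover {Y Z : Sh J} (g : Y ⟶ Z)
    {ι : Type u} {X : ι → Sh J} (f : ∀ i, X i ⟶ Y) (hf : Epi (Sigma.desc f))
    (hqc : ∀ i, IsQCHom (f i)) (h : ∀ i, IsQSHom (f i ≫ g)) : IsQSHom g := by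
  have hcov : ∀ i, IsPullback (pullback.snd g (f i ≫ g))
      (pullback.map g (f i ≫ g) g g (𝟙 _) (f i) (𝟙 _) (by simp) (by simp))
      (f i) (pullback.snd g g) := by
    intro i
    refine isPullback_of_sections ?_ (fun U x y hp hq => ?_) (fun U c d e => ?_)
    · simp [pullback.lift_fst, pullback.lift_snd, pullback.lift_fst_assoc, pullback.lift_snd_assoc, pullback.condition]
    · refine pullback_ext ?_ hp
      have h1 := congr_arg (fun z => (pullback.fst g g).hom.app U z) hq
      simp only [← comp_app_apply, pullback.lift_fst] at h1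
      exact h1
    · have hd := app_congr (pullback.condition (f := g) (g := g)) U d
      simp only [comp_app_apply] at hd
      obtain ⟨x, ⟨hx1, hx2⟩, -⟩ := exists_section_of_isPullback (IsPullback.of_hasPullback g (f i ≫ g))
        ((pullback.fst g g).hom.app U d) c (by rw [comp_app_apply, e, hd])
      refine ⟨x, hx2, pullback_ext ?_ ?_⟩
      · rw [← comp_app_apply, pullback.lift_fst]; exact hx1
      · rw [← comp_app_apply, pullback.lift_snd, comp_app_apply, hx2, e]
  let Γ : ∀ i, X i ⟶ pullback g (f i ≫ g) := fun i => pullback.lift (f i) (𝟙 _) (by simp)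
  have sq : ∀ i, IsPullback (f i) (Γ i) (pullback.diagonal g)
      (pullback.map g (f i ≫ g) g g (𝟙 _) (f i) (𝟙 _) (by simp) (by simp)) := by
    intro i
    refine isPullback_of_sections ?_ (fun U x y _ hq => ?_) (fun U c d e => ?_)
    · refine Limits.pullback.hom_ext ?_ ?_ <;> simp [Γ, pullback.lift_fst, pullback.lift_snd, pullback.lift_fst_assoc, pullback.lift_snd_assoc]
    · have h := congr_arg (fun z => (pullback.snd g (f i ≫ g)).hom.app U z) hq
      simp only [Γ, ← comp_app_apply, pullback.lift_snd] at h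
      exact h
    · have e1 := congr_arg (fun z => (pullback.fst g g).hom.app U z) e
      have e2 := congr_arg (fun z => (pullback.snd g g).hom.app U z) e
      simp only [← comp_app_apply, pullback.diagonal_fst, pullback.diagonal_snd, pullback.lift_fst,
        pullback.lift_snd] at e1 e2
      change c = (pullback.fst g (f i ≫ g)).hom.app U d at e1
      change c = _ at e2
      refine ⟨(pullback.snd g (f i ≫ g)).hom.app U d, e2.symm, pullback_ext ?_ ?_⟩
      · rw [← comp_app_apply, pullback.lift_fst, ← e1]; exact e2.symm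
      · rw [← comp_app_apply, pullback.lift_snd]; rfl
  refine qcHom_of_qc_target_cover _ _ (jepi_isPullback f hf (pullback.snd g g) _ _ hcov)
    (fun i => MorphismProperty.of_isPullback (P := qcHom) (hcov i) (hqc i)) _ _ sq ?_
  intro i
  -- the graph is the diagonal followed by a base change of `f i`
  have e : Γ i = pullback.diagonal (f i ≫ g) ≫
      pullback.map (f i ≫ g) (f i ≫ g) g (f i ≫ g) (f i) (𝟙 _) (𝟙 _) (by simp) (by simp) := by
    refine Limits.pullback.hom_ext ?_ ?_ <;> simp [Γ, pullback.lift_fst, pullback.lift_snd, pullback.lift_fst_assoc, pullback.lift_snd_assoc]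
  have hq : qcHom (pullback.map (f i ≫ g) (f i ≫ g) g (f i ≫ g) (f i) (𝟙 _) (𝟙 _) (by simp) (by simp)) :=
    qcHom.pullbackMap (f := f i ≫ g) (g := f i ≫ g) (f' := g) (g' := f i ≫ g) (hqc i) (qcHom.id_mem _)
      rfl (by simp)
  rw [e]
  exact MorphismProperty.comp_mem qcHom _ _ (h i) hq

/-- A morphism with quasi-separated source and enough quasi-separated products is quasi-separated. -/
theorem qsHom_of_cover_qs_products (hE : HasQCGenerators J) {X Y : Sh J} (f : X ⟶ Y) {ι : Type u}
    {Xi : ι → Sh J} (g : ∀ i, Xi i ⟶ X) (hg : Epi (Sigma.desc g)) (hqc : ∀ i, IsQC (Xi i))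
    (hqs : ∀ i j, IsQS (pullback (g i ≫ f) (g j ≫ f))) (hX : IsQS X) : IsQSHom f := by
  let m : ∀ p : ι × ι, pullback (g p.1 ≫ f) (g p.2 ≫ f) ⟶ pullback f f := fun p =>
    pullback.map (g p.1 ≫ f) (g p.2 ≫ f) f f (g p.1) (g p.2) (𝟙 _) (by simp) (by simp)
  have hcov : Epi (Sigma.desc m) := by
    refine (jepi_iff m).2 fun U z => ?_
    have hg' := (jepi_iff g).1 hg
    refine J.transitive (hg' U ((pullback.fst f f).hom.app (op U) z)) _ ?_
    rintro V a ⟨i, t, ht⟩
    refine J.transitive (hg' V ((X.obj.map a.op) ((pullback.snd f f).hom.app (op U) z))) _ ?_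
    rintro W b ⟨j, t', ht'⟩
    refine J.superset_covering ?_ (J.top_mem W)
    intro W' c _
    have hz := app_congr (pullback.condition (f := f) (g := f)) (op U) z
    simp only [comp_app_apply] at hz
    have e1 : (g i).hom.app (op W') ((Xi i).obj.map ((c ≫ b).op) t) =
        (pullback.fst f f).hom.app (op W') ((pullback f f).obj.map (c ≫ b ≫ a).op z) := by
      rw [NatTrans.naturality_apply, NatTrans.naturality_apply, ht, ← Functor.map_comp_apply,
        ← op_comp, Category.assoc]
    have e2 : (g j).hom.app (op W') ((Xi j).obj.map c.op t') =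
        (pullback.snd f f).hom.app (op W') ((pullback f f).obj.map (c ≫ b ≫ a).op z) := by
      rw [NatTrans.naturality_apply, NatTrans.naturality_apply, ht', ← Functor.map_comp_apply,
        ← Functor.map_comp_apply, ← op_comp, ← op_comp, Category.assoc]
    obtain ⟨r, ⟨hr1, hr2⟩, -⟩ := exists_section_of_isPullback
      (IsPullback.of_hasPullback (g i ≫ f) (g j ≫ f))
      ((Xi i).obj.map ((c ≫ b).op) t) ((Xi j).obj.map c.op t') (by
        rw [comp_app_apply, comp_app_apply, e1, e2]
        exact app_congr (pullback.condition (f := f) (g := f)) _ _)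
    refine ⟨(i, j), r, pullback_ext ?_ ?_⟩
    · rw [← comp_app_apply]
      show (m (i, j) ≫ pullback.fst f f).hom.app _ _ = _
      simp only [m, pullback.lift_fst, comp_app_apply, hr1, e1, Category.assoc]
    · rw [← comp_app_apply]
      show (m (i, j) ≫ pullback.snd f f).hom.app _ _ = _
      simp only [m, pullback.lift_snd, comp_app_apply, hr2, e2, Category.assoc]
  refine qcHom_of_cover _ fun W a _ => ?_
  choose κ G π hG hπ using fun p => hE (pullback (m p) a)
  refine ⟨Σ p, κ p, fun q => G q.1 q.2, fun q => π q.1 q.2 ≫ pullback.snd (m q.1) a,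
    jepi_bind (fun p => pullback.snd (m p) a) (jepi_pullback m hcov a) π hπ, fun ⟨p, k⟩ => ?_⟩
  -- the base change of the diagonal to `Xi ×_Y Xj` is `Xi ×_X Xj`
  let n : pullback (g p.1) (g p.2) ⟶ pullback (g p.1 ≫ f) (g p.2 ≫ f) :=
    pullback.map _ _ _ _ (𝟙 _) (𝟙 _) f (by simp) (by simp)
  have sq : IsPullback (pullback.fst (g p.1) (g p.2) ≫ g p.1) n (pullback.diagonal f) (m p) := by
    refine isPullback_of_sections ?_ (fun U x y _ hq => ?_) (fun U c d e => ?_)
    · refine Limits.pullback.hom_ext ?_ ?_ <;>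
        simp [m, n, pullback.lift_fst, pullback.lift_snd, pullback.lift_fst_assoc, pullback.lift_snd_assoc, pullback.condition, pullback.condition_assoc]
    · refine pullback_ext ?_ ?_
      · simpa [n, ← comp_app_apply, pullback.lift_fst] using
          congr_arg (fun z => (pullback.fst (g p.1 ≫ f) (g p.2 ≫ f)).hom.app U z) hq
      · simpa [n, ← comp_app_apply, pullback.lift_snd] using
          congr_arg (fun z => (pullback.snd (g p.1 ≫ f) (g p.2 ≫ f)).hom.app U z) hq
    · have e1 := congr_arg (fun z => (pullback.fst f f).hom.app U z) e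
      have e2 := congr_arg (fun z => (pullback.snd f f).hom.app U z) e
      simp only [m, ← comp_app_apply, pullback.diagonal_fst, pullback.diagonal_snd, pullback.lift_fst,
        pullback.lift_snd] at e1 e2
      change c = _ at e1
      change c = _ at e2
      obtain ⟨x, ⟨hx1, hx2⟩, -⟩ := exists_section_of_isPullback
        (IsPullback.of_hasPullback (g p.1) (g p.2))
        ((pullback.fst (g p.1 ≫ f) (g p.2 ≫ f)).hom.app U d)
        ((pullback.snd (g p.1 ≫ f) (g p.2 ≫ f)).hom.app U d) (e1.symm.trans e2)
      refine ⟨x, ?_, pullback_ext ?_ ?_⟩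
      · rw [comp_app_apply, hx1, e1]; rfl
      · rw [← comp_app_apply]; simp only [n, pullback.lift_fst, Category.comp_id]; exact hx1
      · rw [← comp_app_apply]; simp only [n, pullback.lift_snd, Category.comp_id]; exact hx2
  have e : (π p k ≫ pullback.snd (m p) a) ≫ a = (π p k ≫ pullback.fst (m p) a) ≫ m p := by
    simp [pullback.condition]
  refine qc_iso (pullback.congrHom rfl e).symm ?_
  refine qc_iso ((IsPullback.of_hasPullback n (π p k ≫ pullback.fst (m p) a)).paste_horiz sq).isoPullback ?_
  exact hqs p.1 p.2 _ _ n _ (hX _ _ (g p.1) (g p.2) (hqc _) (hqc _)) (hG p k)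

end Groth.Agent.Topos
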