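import Groth.Agent.Lib.ToposFin.Basic
import Mathlib.CategoryTheory.Extensive
import Mathlib.CategoryTheory.Sites.Closed
import Mathlib.CategoryTheory.Limits.Shapes.Pullback.IsPullback.Basic

/-!
# Cartesian squares and coproducts of sheaves of sets
-/

set_option autoImplicit false

universe u w w'

open CategoryTheory CategoryTheory.Limits Opposite ToposFin

namespace Groth.Agent.Topos

variable {C : Type u} [SmallCategory C] {J : GrothendieckTopology C}

/-- A commutative square of sheaves is cartesian if it is so on sections. -/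
theorem isPullback_of_sections {P A B S : Sheaf J (Type u)} {p : P ⟶ A} {q : P ⟶ B}
    {f : A ⟶ S} {g : B ⟶ S} (w : p ≫ f = q ≫ g)
    (hinj : ∀ (U : Cᵒᵖ) (x y : P.obj.obj U),
      p.hom.app U x = p.hom.app U y → q.hom.app U x = q.hom.app U y → x = y)
    (hex : ∀ (U : Cᵒᵖ) (a : A.obj.obj U) (b : B.obj.obj U),
      f.hom.app U a = g.hom.app U b → ∃ x, p.hom.app U x = a ∧ q.hom.app U x = b) :
    IsPullback p q f g := by
  refine IsPullback.of_map (sheafToPresheaf J (Type u)) w ?_
  refine IsPullback.of_forall_isPullback_app fun U => ?_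
  rw [Types.isPullback_iff]
  exact ⟨congr_arg (fun m : P ⟶ S => m.hom.app U) w, fun x y h => hinj U x y h.1 h.2, hex U⟩

theorem comp_app_apply {A B D : Sheaf J (Type u)} (f : A ⟶ B) (g : B ⟶ D) (U : Cᵒᵖ)
    (a : A.obj.obj U) : (f ≫ g).hom.app U a = g.hom.app U (f.hom.app U a) := rfl

theorem app_congr {A B : Sheaf J (Type u)} {f g : A ⟶ B} (h : f = g) (U : Cᵒᵖ)
    (a : A.obj.obj U) : f.hom.app U a = g.hom.app U a := by rw [h]

theorem injective_app_of_mono {A B : Sheaf J (Type u)} (m : A ⟶ B) [Mono m] (U : Cᵒᵖ) :
    Function.Injective (m.hom.app U) := fun x y h => by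
  have hh : IsPullback (𝟙 A) (𝟙 A) m m := IsKernelPair.id_of_mono m
  obtain ⟨z, ⟨h1, h2⟩, -⟩ := exists_section_of_isPullback hh x y h
  exact h1.symm.trans h2

theorem pullback_ext {A B S : Sheaf J (Type u)} {f : A ⟶ S} {g : B ⟶ S} {U : Cᵒᵖ}
    {x y : (pullback f g).obj.obj U}
    (h1 : (pullback.fst f g).hom.app U x = (pullback.fst f g).hom.app U y)
    (h2 : (pullback.snd f g).hom.app U x = (pullback.snd f g).hom.app U y) : x = y := by
  obtain ⟨z, -, hz⟩ := exists_section_of_isPullback (IsPullback.of_hasPullback f g)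
    ((pullback.fst f g).hom.app U x) ((pullback.snd f g).hom.app U x)
    (app_congr pullback.condition U x)
  exact (hz x ⟨rfl, rfl⟩).trans (hz y ⟨h1.symm, h2.symm⟩).symm

/-- The diagonal of a base change is the base change of the diagonal. -/
theorem isPullback_diagonal {X Y B P : Sheaf J (Type u)} {p : P ⟶ X} {q : P ⟶ B} {f : X ⟶ Y}
    {g : B ⟶ Y} (h : IsPullback p q f g) :
    IsPullback p (pullback.diagonal q) (pullback.diagonal f)
      (pullback.map q q f f p p g h.w.symm h.w.symm) := by
  refine isPullback_of_sections (Limits.pullback.hom_ext (by simp [pullback.lift_fst]) (by simp [pullback.lift_snd]))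
    (fun U x y _ hq => ?_) (fun U a b e => ?_)
  · simpa [← comp_app_apply] using congr_arg (fun z => (pullback.fst q q).hom.app U z) hq
  · have e1 := congr_arg (fun z => (pullback.fst f f).hom.app U z) e
    have e2 := congr_arg (fun z => (pullback.snd f f).hom.app U z) e
    simp only [← comp_app_apply, pullback.diagonal_fst, pullback.diagonal_snd] at e1 e2
    simp only [pullback.lift_fst, pullback.lift_snd, comp_app_apply] at e1 e2
    change a = _ at e1
    change a = _ at e2
    have eq12 : (pullback.fst q q).hom.app U b = (pullback.snd q q).hom.app U b := by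
      obtain ⟨z, -, hz⟩ := exists_section_of_isPullback h a
        (q.hom.app U ((pullback.fst q q).hom.app U b))
        (by
          conv_lhs => rw [e1]
          exact app_congr h.w U _)
      exact (hz _ ⟨e1.symm, rfl⟩).trans (hz _ ⟨e2.symm, (app_congr pullback.condition U b).symm⟩).symm
    refine ⟨(pullback.fst q q).hom.app U b, e1.symm, pullback_ext ?_ ?_⟩
    · rw [← comp_app_apply, pullback.diagonal_fst]; rfl
    · rw [← comp_app_apply, pullback.diagonal_snd]; exact eq12

theorem qsHom_isPullback {X Y B P : Sh J} {p : P ⟶ X} {q : P ⟶ B} {f : X ⟶ Y} {g : B ⟶ Y}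
    (h : IsPullback p q f g) (hf : IsQSHom f) : IsQSHom q :=
  MorphismProperty.of_isPullback (P := qcHom) (isPullback_diagonal h) hf

/-- Two members of different index meet in the empty sheaf. -/
theorem sigma_ι_disjoint {ι : Type w} (F : ι → Sheaf J (Type u)) [HasCoproduct F] {i j : ι}
    (hij : i ≠ j) {U : C} (s : (F i).obj.obj (op U)) (t : (F j).obj.obj (op U))
    (e : (Sigma.ι F i).hom.app (op U) s = (Sigma.ι F j).hom.app (op U) t) :
    (⊥ : Sieve U) ∈ J U := by
  classical
  let Ω : Sheaf J (Type u) := ⟨(Functor.closedSieves J).toFunctor,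
    (isSheaf_iff_isSheaf_of_type J _).2 (classifier_isSheaf J)⟩
  let c : ∀ k, F k ⟶ Ω := fun k => ⟨
    { app := fun V => ↾fun _ => if k = i then ⟨(⊤ : Sieve V.unop), fun _ _ _ => trivial⟩ else ⟨J.close (⊥ : Sieve V.unop), J.close_isClosed _⟩
      naturality := fun V W f => by
        ext x
        by_cases hk : k = i
        · simp only [hk, if_true]
          exact Subtype.ext Sieve.pullback_top.symm
        · simp only [hk, if_false]
          refine Subtype.ext ?_
          show J.close (⊥ : Sieve W.unop) = (J.close (⊥ : Sieve V.unop)).pullback f.unop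
          rw [← J.pullback_close]
          congr 1 }⟩
  have h1 := app_congr (Limits.Sigma.ι_desc c i) (op U) s
  have h2 := app_congr (Limits.Sigma.ι_desc c j) (op U) t
  rw [comp_app_apply, e, ← comp_app_apply] at h1
  have h3 := congr_arg Subtype.val (h1.symm.trans h2)
  simp only [c] at h3
  have h4 : (⊤ : Sieve U) = J.close ⊥ := by simp [Ne.symm hij] at h3; exact h3
  exact (J.close_eq_top_iff_mem _).1 h4.symm

instance : FinitaryExtensive (Sheaf J (Type u)) := inferInstance

theorem mono_sigma_ι {ι : Type u} (F : ι → Sheaf J (Type u)) (i : ι) : Mono (Sigma.ι F i) :=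
  MonoCoprod.mono_inj F _ (coproductIsCoproduct F) i

end Groth.Agent.Topos
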